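import Groth.Agent.PointBlowUp.IdealPow
import Groth.Agent.ContractUP.Main
import Groth.Agent.FComplLib.IdealComap
import Groth.Agent.DepthTwist.IdealPow
import Groth.Agent.LerayEuler.Pullback
import Groth.Agent.IntSym.PushDim
import Groth.Agent.QCoh.RpushStalk
import Groth.Agent.GeomField.GlobalFunctions
import Groth.Agent.DerBC7.SplitPush
import Groth.Agent.SurfRR.Basic
import Groth.Agent.Kleiman.Generic
import Groth.Agent.S1680
import Groth.Agent.S8914

/-! Blowing up a regular closed point of a proper surface over a field: Euler characteristics of the powers of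
the exceptional ideal, and the intersection rules. -/

noncomputable section

set_option autoImplicit false
set_option linter.style.haveILetI false
set_option linter.unusedSectionVars false
set_option backward.isDefEq.respectTransparency false
set_option backward.isDefEq.respectTransparency.types false
set_option maxHeartbeats 1000000

universe u

open CategoryTheory CategoryTheory.Limits AlgebraicGeometry TopologicalSpace Opposite IsLocalRing
open Groth.Agent.H23.PicMul (cl_tensor cl_eq_iff)

namespace Groth.Agent.PointBlowUp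

open Groth.Agent

/-- A morphism sending every point to `x` factors through the spectrum of the local ring at `x`. -/
theorem exists_factor_fromSpecStalk {T X : Scheme.{u}} (q : T ⟶ X) (x : X) (hq : ∀ t, q t = x) :
    ∃ l : T ⟶ Spec (X.presheaf.stalk x), l ≫ X.fromSpecStalk x = q := by
  obtain ⟨V, hV, hxV, -⟩ := exists_isAffineOpen_mem_and_subset (U := (⊤ : X.Opens)) (x := x) trivial
  let g' : T ⟶ Spec Γ(X, V) := IsOpenImmersion.lift hV.fromSpec q (by
    rintro _ ⟨t, rfl⟩; rw [hq t, hV.range_fromSpec]; exact hxV)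
  have hg'e : g' ≫ hV.fromSpec = q := IsOpenImmersion.lift_fac _ _ _
  obtain ⟨φ, hφ⟩ : ∃ φ : Γ(X, V) ⟶ Γ(T, ⊤), T.toSpecΓ ≫ Spec.map φ = g' :=
    ⟨(ΓSpec.adjunction.homEquiv T (op Γ(X, V))).symm g' |>.unop, by
      have := (ΓSpec.adjunction.homEquiv T (op Γ(X, V))).apply_symm_apply g'
      rw [ΓSpec.adjunction.homEquiv_unit] at this
      exact this⟩
  have hunit : ∀ r : ((hV.primeIdealOf ⟨x, hxV⟩).asIdeal.primeCompl), IsUnit (φ.hom r.1) := fun r => by
    refine T.toRingedSpace.isUnit_of_isUnit_germ ⊤ (φ.hom r.1) fun t ht => (T.mem_basicOpen (φ.hom r.1) t ht).1 ?_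
    have h1 : g' ⁻¹ᵁ PrimeSpectrum.basicOpen r.1 = T.basicOpen (φ.hom r.1) := by
      rw [← hφ, Scheme.Hom.comp_preimage, ← Scheme.toSpecΓ_preimage_basicOpen]
      rfl
    rw [← h1]
    have h2 : g' t = hV.primeIdealOf ⟨x, hxV⟩ := hV.fromSpec.isOpenEmbedding.injective (by
      rw [← Scheme.Hom.comp_apply, hg'e, hq t, hV.fromSpec_primeIdealOf])
    show g' t ∈ PrimeSpectrum.basicOpen r.1
    rw [h2]
    exact r.2
  letI := TopCat.Presheaf.algebra_section_stalk X.presheaf (⟨x, hxV⟩ : V)
  haveI := hV.isLocalization_stalk ⟨x, hxV⟩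
  let ψ : X.presheaf.stalk x →+* Γ(T, ⊤) := IsLocalization.lift
    (M := (hV.primeIdealOf ⟨x, hxV⟩).asIdeal.primeCompl) (g := φ.hom) hunit
  have hψ : X.presheaf.germ V x hxV ≫ CommRingCat.ofHom ψ = φ := by
    ext r
    exact IsLocalization.lift_eq hunit r
  refine ⟨T.toSpecΓ ≫ Spec.map (CommRingCat.ofHom ψ), ?_⟩
  rw [← hV.fromSpecStalk_eq_fromSpecStalk hxV, IsAffineOpen.fromSpecStalk, Category.assoc,
    ← Spec.map_comp_assoc, hψ, reassoc_of% hφ, hg'e]

/-- Blowing up a regular closed point of dimension two does not change the functions. -/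
theorem isIso_app_blowUp {X X' : Scheme.{u}} (b : X' ⟶ X) [IsProper b] [IsLocallyNoetherian X] (y : X)
    (hy : IsClosed ({y} : Set X)) [IsRegularLocalRing (X.presheaf.stalk y)]
    (hdim : ringKrullDim (X.presheaf.stalk y) = 2)
    (hbl : BlowUp.IsBlowUp b (Scheme.IdealSheafData.vanishingIdeal ⟨{y}, hy⟩)) :
    ∀ W : X.Opens, IsIso (b.app W) := by
  let I := Scheme.IdealSheafData.vanishingIdeal (⟨{y}, hy⟩ : Closeds X)
  haveI hiso : IsIso (b ∣_ I.support.compl) := S1682.result I b hbl
  have hsupp : ∀ z, z ∈ I.support.compl ↔ z ≠ y := fun z => by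
    show z ∈ ((I.support : Set X))ᶜ ↔ _
    simp [I, hy.closure_eq]
  have hreg : IsRegularLocalRing (X.presheaf.stalk y) := inferInstance
  have hloc : ∀ z : X, ∃ U : X.Opens, z ∈ U ∧ ∀ V : X.Opens, V ≤ U → IsIso (b.app V) := by
    intro z
    have hres : ∀ (U : X.Opens) (V : X.Opens), V ≤ U → IsIso ((b ∣_ U).app (U.ι ⁻¹ᵁ V)) → IsIso (b.app V) := by
      intro U V hV h
      rw [morphismRestrict_app] at h
      have h1 : IsIso (b.app (U.ι ''ᵁ (U.ι ⁻¹ᵁ V))) := (isIso_comp_right_iff _ _).mp h
      have he : U.ι ''ᵁ (U.ι ⁻¹ᵁ V) = V := by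
        rw [Scheme.Hom.image_preimage_eq_opensRange_inf, Scheme.Opens.opensRange_ι, inf_eq_right]
        exact hV
      rwa [he] at h1
    by_cases hz : z = y
    · haveI : IsDomain (X.presheaf.stalk z) := by
        rw [hz]; exact RegLoc6.isDomain_of_isRegularLocalRing _
      obtain ⟨W, hzW, hWint⟩ := H23.FinCondSch.exists_integral_nhd z
      haveI := hWint
      haveI : IsLocallyNoetherian (W : Scheme.{u}) := inferInstance
      let bW := pullback.fst W.ι b
      have hblW := S1680.result W.ι I b hbl
      have hyW : y ∈ W := hz ▸ hzW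
      let y₀ : (W : Scheme.{u}) := ⟨y, hyW⟩
      haveI : IsRegularLocalRing ((W : Scheme.{u}).presheaf.stalk y₀) :=
        haveI : IsRegularLocalRing (X.presheaf.stalk (W.ι y₀)) := hreg
        IsRegularLocalRing.of_ringEquiv (asIso (W.ι.stalkMap y₀)).commRingCatIsoToRingEquiv
      have hI0 : I.comap W.ι ≠ ⊥ := fun h0 => by
        have h1 : ((I.comap W.ι).support : Set (W : Scheme.{u})) = Set.univ := by rw [h0]; simp
        have h2 : ∀ v : (W : Scheme.{u}), v.1 = y := fun v => by
          have hv : v ∈ ((I.comap W.ι).support : Set (W : Scheme.{u})) := h1 ▸ Set.mem_univ v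
          rw [Scheme.IdealSheafData.support_comap] at hv
          by_contra hne
          exact ((hsupp v.1).mpr hne) hv
        have hsub : Subsingleton (W : Scheme.{u}) := ⟨fun p q => Subtype.ext ((h2 p).trans (h2 q).symm)⟩
        have hd : ringKrullDim ((W : Scheme.{u}).presheaf.stalk y₀) = 2 := by
          rw [← hdim]
          exact (ringKrullDim_eq_of_ringEquiv (asIso (W.ι.stalkMap y₀)).commRingCatIsoToRingEquiv).symm
        have hle := CurveCohLib.ringKrullDim_stalk_le_topologicalKrullDim (X := (W : Scheme.{u})) y₀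
        haveI : Subsingleton (IrreducibleCloseds (W : Scheme.{u})) := ⟨fun p q =>
          IrreducibleCloseds.ext ((Set.subsingleton_of_subsingleton.eq_singleton_of_mem
            p.isIrreducible.nonempty.some_mem).trans
              ((congrArg _ (Subsingleton.elim _ _)).trans (Set.subsingleton_of_subsingleton.eq_singleton_of_mem
                q.isIrreducible.nonempty.some_mem).symm))⟩
        have h3 : topologicalKrullDim (W : Scheme.{u}) ≤ 0 := Order.krullDim_nonpos_of_subsingleton
        rw [hd] at hle
        exact absurd (hle.trans h3) (by norm_num)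
      obtain ⟨hint, hgen, hres'⟩ := S2348.result (I.comap W.ι) hI0 bW hblW
      haveI := hint
      haveI : IsProper bW := inferInstance
      have hdom : bW (genericPoint _) ⤳ genericPoint (W : Scheme.{u}) := specializes_of_eq hgen
      have hbir : IsIso (bW.stalkMap (genericPoint _)) := by
        rw [ConcreteCategory.isIso_iff_bijective]
        haveI : IsField ((pullback W.ι b).presheaf.stalk (genericPoint _)) :=
          Field.toIsField (pullback W.ι b).functionField
        refine ⟨?_, fun s => ?_⟩
        · have hf : IsField ((W : Scheme.{u}).presheaf.stalk (bW (genericPoint _))) := by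
            rw [hgen]; exact Field.toIsField (W : Scheme.{u}).functionField
          letI := hf.toField
          exact (bW.stalkMap (genericPoint _)).hom.injective
        · obtain ⟨r, hr⟩ := hres'.2 ((pullback W.ι b).residue _ s)
          obtain ⟨r', rfl⟩ := Scheme.residue_surjective _ _ r
          refine ⟨r', ?_⟩
          have hinj : Function.Injective ((pullback W.ι b).residue (genericPoint _)).hom := by
            letI := ‹IsField ((pullback W.ι b).presheaf.stalk (genericPoint _))›.toField
            exact RingHom.injective _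
          refine hinj (Eq.trans ?_ hr)
          exact (congr($(Scheme.residue_residueFieldMap bW (genericPoint _)) r')).symm
      haveI : IsIntegrallyClosed ((W : Scheme.{u}).presheaf.stalk y₀) := by
        haveI := RegLoc6.isDomain_of_isRegularLocalRing ((W : Scheme.{u}).presheaf.stalk y₀)
        exact RegLoc6.isIntegrallyClosed_of_isRegularLocalRing _
      obtain ⟨U, hyU, hU⟩ := ZarConn.exists_nhd_isIso_app bW hdom
        (fun x _ => ZarConn.ψ_surjective_of_bir bW hgen hbir _ x) y₀ inferInstance
      refine ⟨W.ι ''ᵁ U, ⟨y₀, hyU, hz.symm⟩, fun V hV => hres W V (hV.trans (W.ι_image_le U)) ?_⟩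
      have hsq : IsPullback (b ∣_ W) (b ⁻¹ᵁ W).ι W.ι b := isPullback_morphismRestrict b W
      have heq : hsq.isoPullback.hom ≫ bW = b ∣_ W := hsq.isoPullback_hom_fst
      rw [← heq, Scheme.Hom.comp_app]
      haveI : IsIso (bW.app (W.ι ⁻¹ᵁ V)) := hU _ ((W.ι.preimage_mono hV).trans (W.ι.preimage_image_eq U).le)
      infer_instance
    · refine ⟨I.support.compl, (hsupp z).mpr hz, fun V hV => hres _ V hV ?_⟩
      infer_instance
  choose U hzU hU using hloc
  intro W
  rw [ConcreteCategory.isIso_iff_bijective]
  refine FlatMisc.bijective_app_of_isBasis b (B := {T | ∃ z, T ≤ U z}) ?_ ?_ W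
  · refine Opens.isBasis_iff_nbhd.2 fun {T x} hx => ⟨T ⊓ U x, ⟨x, inf_le_right⟩, ⟨hx, hzU x⟩, inf_le_left⟩
  · rintro T ⟨z, hT⟩
    haveI := hU z T hT
    exact ConcreteCategory.bijective_of_isIso (b.app T)

/-- The ideal of the exceptional curve. -/
abbrev exc {X X' : Scheme.{u}} (π : X' ⟶ X) (x : X) (hx : IsClosed ({x} : Set X)) : X'.IdealSheafData :=
  BlowUp.exceptional π (Scheme.IdealSheafData.vanishingIdeal ⟨{x}, hx⟩)

variable (k : Type u) [Field k] {X X' : Scheme.{u}} [X.Over (Spec (CommRingCat.of k))]
  [X'.Over (Spec (CommRingCat.of k))] [IsProper (X ↘ Spec (CommRingCat.of k))]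
  (π : X' ⟶ X) (hπk : π ≫ (X ↘ Spec (CommRingCat.of k)) = X' ↘ Spec (CommRingCat.of k))
  (x : X) (hx : IsClosed ({x} : Set X)) [IsRegularLocalRing (X.presheaf.stalk x)]
  (hdimx : ringKrullDim (X.presheaf.stalk x) = 2)
  (hπ : BlowUp.IsBlowUp π (Scheme.IdealSheafData.vanishingIdeal ⟨{x}, hx⟩))

include k hπ in
theorem isProper_pi : IsProper π := by
  haveI := CurveCohLib.isNoetherian_of_proper (k := k) (X := X)
  refine BlowUpLib.isProper_of_isBlowUp _ hπ fun U => ?_
  haveI : IsNoetherianRing Γ(X, U.1) := IsLocallyNoetherian.component_noetherian U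
  exact IsNoetherian.noetherian _

include hπk hπ in
theorem isProper_over : IsProper (X' ↘ Spec (CommRingCat.of k)) := by
  haveI := isProper_pi k π x hx hπ
  rw [← hπk]
  infer_instance

include hπk hdimx hπ in
/-- The functions on the `n`-th thickening of the exceptional curve. -/
theorem euler_thick [IsProper (X' ↘ Spec (CommRingCat.of k))] {n : ℕ} (hn : n ≠ 0) :
    letI := (Curv2.stalkMap k X x).toAlgebra
    Curv2.euler k X' (ClSub.quotMod (exc π x hx ^ n)) =
      Module.finrank k (X.presheaf.stalk x ⧸ maximalIdeal (X.presheaf.stalk x) ^ n) := by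
  letI := (Curv2.stalkMap k X x).toAlgebra
  let A := X.presheaf.stalk x
  let J := Scheme.IdealSheafData.vanishingIdeal (⟨{x}, hx⟩ : Closeds X)
  let g := X.fromSpecStalk x
  haveI : Flat g := S4366.flat_fromSpecStalk x
  haveI : IsPreimmersion g := inferInstance
  let K := exc π x hx ^ n
  let ι := K.subschemeι
  have hpt : ∀ t, (ι ≫ π) t = x := fun t => by
    have h1 : ι t ∈ K.support := by
      have := Set.mem_range_self (f := ι) t
      rwa [Scheme.IdealSheafData.range_subschemeι] at this
    have h2 : ι t ∈ (J.comap π).support := by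
      have hle : K.support ≤ (J.comap π).support := by
        rw [Scheme.IdealSheafData.support_pow _ _ hn]
      exact hle h1
    rw [Scheme.IdealSheafData.support_comap] at h2
    have h3 : π (ι t) ∈ (J.support : Set X) := h2
    rw [Scheme.IdealSheafData.coe_support_vanishingIdeal] at h3
    exact h3
  obtain ⟨lA, hlA⟩ := exists_factor_fromSpecStalk (ι ≫ π) x hpt
  let l : K.subscheme ⟶ pullback g π := pullback.lift lA ι hlA
  have hl2 : l ≫ pullback.snd g π = ι := pullback.lift_snd _ _ _
  haveI : IsClosedImmersion (l ≫ pullback.snd g π) := by rw [hl2]; infer_instance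
  haveI : IsClosedImmersion l := IsClosedImmersion.of_comp l (pullback.snd g π)
  haveI : Mono (pullback.snd g π) := inferInstance
  have hsq : IsPullback l (𝟙 K.subscheme) (pullback.snd g π) ι := by
    refine ⟨⟨by rw [hl2, Category.id_comp]⟩, ⟨PullbackCone.IsLimit.mk _ (fun s => s.snd) (fun s => ?_)
      (fun s => Category.comp_id _) (fun s m _ h => by rw [← h, Category.comp_id])⟩⟩
    rw [← cancel_mono (pullback.snd g π), Category.assoc, hl2]
    exact s.condition.symm
  have hker : l.ker = ((Curv2.idealSheaf A (maximalIdeal A)).comap (pullback.fst g π)) ^ n := by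
    rw [FComplLib.ker_of_isPullback hsq, Scheme.IdealSheafData.ker_subschemeι, FComplLib.comap_pow,
      ← ContractUP.comap_vanishingIdeal_point x hx, ← Scheme.IdealSheafData.comap_comp,
      ← Scheme.IdealSheafData.comap_comp, pullback.condition]
  have hbl := S1680.result g _ π hπ
  rw [ContractUP.comap_vanishingIdeal_point x hx] at hbl
  obtain ⟨hsurj, hkerA, hvan⟩ := local_thick A hdimx (pullback.fst g π) hbl n l hker
  letI : K.subscheme.Over (Spec (CommRingCat.of k)) := ⟨ι ≫ (X' ↘ Spec (CommRingCat.of k))⟩
  refine (IntNum.euler_push k ι rfl QCoh.isQCoh_structureModule).trans ?_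
  rw [Curv2.euler, finsum_eq_single _ 0 fun i hi => ?_]
  · rw [pow_zero, one_mul, GeomField.finrank_HH_zero]
    letI := GeomField.globalAlgebra k K.subscheme
    have hcomp : ∀ c, scalOf (l ≫ pullback.fst g π) (algebraMap k A c) = algebraMap k Γ(K.subscheme, ⊤) c := by
      intro c
      show ((Scheme.ΓSpecIso (CommRingCat.of A)).inv ≫ (l ≫ pullback.fst g π).appTop)
          ((X.presheaf.germ ⊤ x trivial) ((X ↘ Spec (CommRingCat.of k)).appTop
            ((Scheme.ΓSpecIso (CommRingCat.of k)).inv c))) =
        (ι ≫ (X' ↘ Spec (CommRingCat.of k))).appTop ((Scheme.ΓSpecIso (CommRingCat.of k)).inv c)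
      have e1 : (l ≫ pullback.fst g π) ≫ g = ι ≫ π := by rw [pullback.lift_fst, hlA]
      conv_rhs => rw [← hπk, ← Category.assoc, ← e1, Scheme.Hom.comp_appTop, Scheme.Hom.comp_appTop]
      rw [show g.appTop = X.presheaf.germ ⊤ x trivial ≫ (Scheme.ΓSpecIso _).inv from Scheme.fromSpecStalk_appTop]
      rfl
    let f : A →ₐ[k] Γ(K.subscheme, ⊤) := { scalOf (l ≫ pullback.fst g π) with commutes' := hcomp }
    have hk : RingHom.ker f.toRingHom = maximalIdeal A ^ n := hkerA
    let e := (Ideal.quotientEquivAlgOfEq k hk.symm).trans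
      (Ideal.quotientKerAlgEquivOfSurjective (f := f) hsurj)
    exact_mod_cast (e.toLinearEquiv.finrank_eq).symm
  · obtain ⟨j, rfl⟩ : ∃ j, i = j + 1 := ⟨i - 1, by omega⟩
    haveI := hvan j
    rw [Module.finrank_zero_of_subsingleton, Nat.cast_zero, mul_zero]

include hdimx in
/-- The lengths of `A/m` and `A/m²` over the ground field. -/
theorem finrank_quot :
    letI := (Curv2.stalkMap k X x).toAlgebra
    letI := Curv2.resAlgebra k X x
    IsClosed ({x} : Set X) →
    Module.finrank k (X.presheaf.stalk x ⧸ maximalIdeal (X.presheaf.stalk x) ^ 1) =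
        Module.finrank k (X.residueField x) ∧
      Module.finrank k (X.presheaf.stalk x ⧸ maximalIdeal (X.presheaf.stalk x) ^ 2) =
        3 * Module.finrank k (X.residueField x) := by
  intro hx
  letI := (Curv2.stalkMap k X x).toAlgebra
  letI := Curv2.resAlgebra k X x
  let A := X.presheaf.stalk x
  let m := maximalIdeal A
  have hk0 : ∀ (c : k) (z : A ⧸ m), (id (c • z) : X.residueField x) = c • (id z : X.residueField x) := fun c z => by
    obtain ⟨z, rfl⟩ := Ideal.Quotient.mk_surjective z
    rw [Algebra.smul_def, Algebra.smul_def]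
    rfl
  let e0 : (A ⧸ m) ≃ₗ[k] X.residueField x :=
    { toFun := id, invFun := id, map_add' := fun _ _ => rfl, map_smul' := hk0
      left_inv := fun _ => rfl, right_inv := fun _ => rfl }
  have h0 : Module.finrank k (A ⧸ m) = Module.finrank k (X.residueField x) := e0.finrank_eq
  haveI : Module.Finite k (A ⧸ m) := by
    haveI : Module.Finite k (X.residueField x) := Kleiman.finite_resMap k hx
    exact Module.Finite.equiv e0.symm
  refine ⟨(LinearEquiv.finrank_eq (Ideal.quotientEquivAlgOfEq k (pow_one m)).toLinearEquiv).trans h0, ?_⟩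
  haveI : IsScalarTower k (ResidueField A) (CotangentSpace A) := IsScalarTower.of_algebraMap_smul fun c z => by
    rw [IsScalarTower.algebraMap_apply k A (ResidueField A), algebraMap_smul, algebraMap_smul]
  haveI : Module.Finite k (ResidueField A) := ‹Module.Finite k (A ⧸ m)›
  haveI : Module.Finite k (CotangentSpace A) := Module.Finite.trans (ResidueField A) _
  have hcot : Module.finrank k (CotangentSpace A) = 2 * Module.finrank k (X.residueField x) := by
    have h2 : Module.finrank (ResidueField A) (CotangentSpace A) = 2 := by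
      have h := (IsRegularLocalRing.iff_finrank_cotangentSpace A).1 inferInstance
      rw [hdimx] at h
      exact_mod_cast h
    rw [← Module.finrank_mul_finrank k (ResidueField A) (CotangentSpace A), h2,
      show Module.finrank k (ResidueField A) = _ from h0, mul_comm]
  let i : CotangentSpace A →ₗ[k] A ⧸ m ^ 2 := m.cotangentToQuotientSquare.restrictScalars k
  let f : (A ⧸ m ^ 2) →ₗ[k] A ⧸ m :=
    (Ideal.Quotient.factorₐ k (Ideal.pow_le_self two_ne_zero : m ^ 2 ≤ m)).toLinearMap
  have hf : Function.Surjective f := Ideal.Quotient.factor_surjective (Ideal.pow_le_self two_ne_zero : m ^ 2 ≤ m)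
  have hi : Function.Injective i := fun a b hab => m.cotangentEquivIdeal.injective (Subtype.ext hab)
  have hrange : LinearMap.ker f = LinearMap.range i := by
    ext z
    constructor
    · intro hz
      obtain ⟨z, rfl⟩ := Ideal.Quotient.mk_surjective z
      have hzm : z ∈ m := Ideal.Quotient.eq_zero_iff_mem.1 hz
      exact ⟨m.toCotangent ⟨z, hzm⟩, m.toCotangent_to_quotient_square ⟨z, hzm⟩⟩
    · rintro ⟨w, rfl⟩
      obtain ⟨⟨z, hzm⟩, rfl⟩ := m.toCotangent_surjective w
      show Ideal.Quotient.factor (Ideal.pow_le_self two_ne_zero : m ^ 2 ≤ m) (m.cotangentToQuotientSquare (m.toCotangent ⟨z, hzm⟩)) = 0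
      rw [m.toCotangent_to_quotient_square]
      exact Ideal.Quotient.eq_zero_iff_mem.2 hzm
  haveI : Module.Finite k (LinearMap.ker f) := by rw [hrange]; infer_instance
  haveI : Module.Finite k (A ⧸ m ^ 2) := by
    haveI : Module.Finite k ((A ⧸ m ^ 2) ⧸ LinearMap.ker f) :=
      Module.Finite.equiv (f.quotKerEquivOfSurjective hf).symm
    exact Module.Finite.of_submodule_quotient (LinearMap.ker f)
  have h3 := f.finrank_range_add_finrank_ker
  rw [LinearMap.range_eq_top.2 hf, finrank_top, hrange, LinearMap.finrank_range_of_inj hi, hcot, h0] at h3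
  show Module.finrank k (A ⧸ m ^ 2) = _
  omega

end Groth.Agent.PointBlowUp
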