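import Groth.Agent.PointBlowUp.Line
import Groth.Agent.PointBlowUp.Surface
import Groth.Agent.ContractUP.Main
import Groth.Agent.AlgSpLib.CartierRegular
import Groth.Agent.JacBC.ThetaBC

/-! The exceptional divisor of blowing up a regular two-dimensional closed point. -/

noncomputable section

set_option autoImplicit false
set_option linter.style.haveILetI false
set_option linter.unusedSectionVars false
set_option backward.isDefEq.respectTransparency false
set_option backward.isDefEq.respectTransparency.types false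
set_option maxHeartbeats 1000000

universe u

open CategoryTheory CategoryTheory.Limits AlgebraicGeometry TopologicalSpace Opposite IsLocalRing

namespace Groth.Agent.PointBlowUp

open Groth.Agent Groth.Agent.BlowUpLib

variable {X Y : Scheme.{u}} (f : X ⟶ Y) (y : Y) (hy : IsClosed ({y} : Set Y))

/-- The exceptional divisor is the projective line over the residue field of the centre. -/
theorem exists_exc_iso_point [IsRegularLocalRing (Y.presheaf.stalk y)]
    (hdim : ringKrullDim (Y.presheaf.stalk y) = 2)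
    (hf : BlowUp.IsBlowUp f (Scheme.IdealSheafData.vanishingIdeal ⟨{y}, hy⟩)) :
    ∃ e : CohB1.ProjSpace 1 (Y.residueField y) ≅
        (BlowUp.exceptional f (Scheme.IdealSheafData.vanishingIdeal ⟨{y}, hy⟩)).subscheme,
      e.hom ≫ (BlowUp.exceptional f (Scheme.IdealSheafData.vanishingIdeal ⟨{y}, hy⟩)).subschemeι ≫ f =
        CohB1.ProjSpace.toSpec 1 (Y.residueField y) ≫ Y.fromSpecResidueField y ∧
      Nonempty ((Scheme.Modules.pullback (e.hom ≫
        (BlowUp.exceptional f (Scheme.IdealSheafData.vanishingIdeal ⟨{y}, hy⟩)).subschemeι)).obj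
          (ClSub.idealMod (BlowUp.exceptional f (Scheme.IdealSheafData.vanishingIdeal ⟨{y}, hy⟩))) ≅
        Twist.twistProjSpace 1 (Y.residueField y) 1) := by
  let g := Y.fromSpecStalk y
  haveI : Flat g := S4366.flat_fromSpecStalk y
  have hbl := S1680.result g _ f hf
  rw [ContractUP.comap_vanishingIdeal_point y hy] at hbl
  let P := pullback g f
  let pr : P ⟶ X := pullback.snd g f
  let b₀ : P ⟶ Spec (Y.presheaf.stalk y) := pullback.fst g f
  let JX := BlowUp.exceptional f (Scheme.IdealSheafData.vanishingIdeal (⟨{y}, hy⟩ : Closeds Y))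
  let JP := BlowUp.exceptional b₀ (Curv2.idealSheaf (Y.presheaf.stalk y) (maximalIdeal (Y.presheaf.stalk y)))
  have hJ : JX.comap pr = JP := by
    show ((Scheme.IdealSheafData.vanishingIdeal _).comap f).comap pr = (Curv2.idealSheaf _ _).comap b₀
    refine Eq.trans ?_ (congrArg (fun I => Scheme.IdealSheafData.comap I b₀) (ContractUP.comap_vanishingIdeal_point y hy))
    rw [← Scheme.IdealSheafData.comap_comp, ← Scheme.IdealSheafData.comap_comp, pullback.condition]
  obtain ⟨e₀, he₀, ⟨w₀⟩⟩ := exists_exc_iso (A := ↑(Y.presheaf.stalk y)) b₀ hdim hbl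
  let ιX := JX.subschemeι
  let ιP := JP.subschemeι
  have hpt : ∀ t, (ιX ≫ f) t = y := fun t => by
    have h : ιX t ∈ (JX.support : Set X) := by
      rw [← Scheme.IdealSheafData.range_subschemeι]; exact Set.mem_range_self t
    have hs : (JX.support : Set X) = f ⁻¹' ((Scheme.IdealSheafData.vanishingIdeal (⟨{y}, hy⟩ : Closeds Y)).support : Set Y) := by
      show (((Scheme.IdealSheafData.vanishingIdeal (⟨{y}, hy⟩ : Closeds Y)).comap f).support : Set X) = _
      rw [Scheme.IdealSheafData.support_comap]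
      rfl
    have h' : f (ιX t) ∈ ((Scheme.IdealSheafData.vanishingIdeal (⟨{y}, hy⟩ : Closeds Y)).support : Set Y) := hs.le h
    simp [hy.closure_eq] at h'
    exact h'
  obtain ⟨l, hl⟩ := exists_factor_fromSpecStalk (ιX ≫ f) y hpt
  let k : JX.subscheme ⟶ P := pullback.lift l ιX hl
  have hk : k ≫ pr = ιX := pullback.lift_snd _ _ _
  have hle : ιP.ker ≤ k.ker := by
    rw [Scheme.IdealSheafData.ker_subschemeι, ← Scheme.IdealSheafData.map_bot,
      Scheme.IdealSheafData.le_map_iff_comap_le, ← hJ, ← Scheme.IdealSheafData.comap_comp, hk,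
      ← Scheme.IdealSheafData.le_map_iff_comap_le, Scheme.IdealSheafData.map_bot]
    exact (Scheme.IdealSheafData.ker_subschemeι JX).ge
  let back := IsClosedImmersion.lift ιP k hle
  have hback : back ≫ ιP = k := IsClosedImmersion.lift_fac _ _ _
  have hle' : ιX.ker ≤ (ιP ≫ pr).ker := by
    rw [Scheme.IdealSheafData.ker_subschemeι, ← Scheme.IdealSheafData.map_ker,
      Scheme.IdealSheafData.le_map_iff_comap_le, hJ, Scheme.IdealSheafData.ker_subschemeι]
  let fwd := IsClosedImmersion.lift ιX (ιP ≫ pr) hle'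
  have hfwd : fwd ≫ ιX = ιP ≫ pr := IsClosedImmersion.lift_fac _ _ _
  let eD : JP.subscheme ≅ JX.subscheme :=
    { hom := fwd
      inv := back
      hom_inv_id := by
        haveI : Mono pr := inferInstance
        rw [← cancel_mono ιP, Category.assoc, hback, ← cancel_mono pr, Category.assoc, hk, hfwd, Category.id_comp]
      inv_hom_id := by
        rw [← cancel_mono ιX, Category.assoc, hfwd, reassoc_of% hback, hk, Category.id_comp] }
  refine ⟨e₀ ≪≫ eD, ?_, ?_⟩
  · show (e₀.hom ≫ fwd) ≫ ιX ≫ f = _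
    rw [Category.assoc, reassoc_of% hfwd, show pr ≫ f = b₀ ≫ g from pullback.condition.symm]
    refine Eq.trans ?_ ((congrArg (· ≫ g) he₀).trans (Category.assoc _ _ _))
    simp only [Category.assoc]
    rfl
  · have hi : PicF.IsInvertible (ClSub.idealMod (JX.comap pr)) := by
      rw [hJ]; exact (S8914.result _).2 hbl.1
    obtain ⟨i₁⟩ := CurveAlgEqLib.nonempty_pullback_idealMod pr ((S8914.result JX).2 hf.1) hi
    rw [hJ] at i₁
    have hc : (e₀.hom ≫ ιP) ≫ pr = (e₀ ≪≫ eD).hom ≫ ιX := by
      show _ = (e₀.hom ≫ fwd) ≫ ιX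
      rw [Category.assoc, Category.assoc, hfwd]
    exact ⟨((Scheme.Modules.pullbackCongr hc.symm).app _) ≪≫
      ((Scheme.Modules.pullbackComp (e₀.hom ≫ ιP) pr).app _).symm ≪≫
      (Scheme.Modules.pullback (e₀.hom ≫ ιP)).mapIso i₁ ≪≫ w₀⟩

/-- The exceptional divisor is reduced and cut out by the fibre. -/
theorem exc_eq_vanishing [IsRegularLocalRing (Y.presheaf.stalk y)]
    (hdim : ringKrullDim (Y.presheaf.stalk y) = 2)
    (hf : BlowUp.IsBlowUp f (Scheme.IdealSheafData.vanishingIdeal ⟨{y}, hy⟩)) :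
    BlowUp.exceptional f (Scheme.IdealSheafData.vanishingIdeal ⟨{y}, hy⟩) =
      Scheme.IdealSheafData.vanishingIdeal ⟨f.base ⁻¹' {y}, hy.preimage f.continuous⟩ := by
  obtain ⟨e, -, -⟩ := exists_exc_iso_point f y hy hdim hf
  haveI := P1Split.isIntegral (Y.residueField y)
  haveI : IsReduced (CohB1.ProjSpace 1 (Y.residueField y) : Scheme.{u}) := inferInstance
  haveI : IsReduced (BlowUp.exceptional f (Scheme.IdealSheafData.vanishingIdeal ⟨{y}, hy⟩)).subscheme :=
    isReduced_of_isOpenImmersion e.inv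
  rw [AlgSpLib.CartierRegular.eq_vanishingIdeal_support (BlowUp.exceptional f (Scheme.IdealSheafData.vanishingIdeal ⟨{y}, hy⟩))]
  congr 1
  refine Closeds.ext ?_
  rw [BlowUp.exceptional, Scheme.IdealSheafData.support_comap]
  ext z
  show f z ∈ ((Scheme.IdealSheafData.vanishingIdeal (⟨{y}, hy⟩ : Closeds Y)).support : Set Y) ↔ f z = y
  simp [hy.closure_eq]

/-- A reduced curve filling the fibre is an exceptional curve of the first kind over the centre. -/
theorem exc_of_range_eq [IsRegularLocalRing (Y.presheaf.stalk y)]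
    (hdim : ringKrullDim (Y.presheaf.stalk y) = 2)
    (hf : BlowUp.IsBlowUp f (Scheme.IdealSheafData.vanishingIdeal ⟨{y}, hy⟩))
    {E : Scheme.{u}} (ι : E ⟶ X) [IsClosedImmersion ι] [IsReduced E] (hE : Set.range ι.base = f.base ⁻¹' {y}) :
    ι.ker = BlowUp.exceptional f (Scheme.IdealSheafData.vanishingIdeal ⟨{y}, hy⟩) ∧
    ∃ e : CohB1.ProjSpace 1 (Y.residueField y) ≅ E,
      e.hom ≫ ι ≫ f = CohB1.ProjSpace.toSpec 1 (Y.residueField y) ≫ Y.fromSpecResidueField y ∧
      Nonempty ((Scheme.Modules.pullback (e.hom ≫ ι)).obj (ClSub.idealMod ι.ker) ≅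
        Twist.twistProjSpace 1 (Y.residueField y) 1) := by
  have hker : ι.ker = BlowUp.exceptional f (Scheme.IdealSheafData.vanishingIdeal ⟨{y}, hy⟩) := by
    rw [JacBC.ker_eq_vanishingIdeal ι, exc_eq_vanishing f y hy hdim hf]
    congr 1
    refine Closeds.ext ?_
    show closure (Set.range ι.base) = f.base ⁻¹' {y}
    rw [hE]
    exact (hy.preimage f.continuous).closure_eq
  refine ⟨hker, ?_⟩
  obtain ⟨e, he, ⟨w⟩⟩ := exists_exc_iso_point f y hy hdim hf
  let J := BlowUp.exceptional f (Scheme.IdealSheafData.vanishingIdeal (⟨{y}, hy⟩ : Closeds Y))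
  have h1 : J.subschemeι.ker = ι.ker := by rw [Scheme.IdealSheafData.ker_subschemeι, hker]
  let t : J.subscheme ⟶ E := IsClosedImmersion.lift ι J.subschemeι h1.ge
  have ht : t ≫ ι = J.subschemeι := IsClosedImmersion.lift_fac _ _ _
  let s : E ⟶ J.subscheme := IsClosedImmersion.lift J.subschemeι ι h1.le
  have hs : s ≫ J.subschemeι = ι := IsClosedImmersion.lift_fac _ _ _
  let eT : J.subscheme ≅ E :=
    { hom := t
      inv := s
      hom_inv_id := by rw [← cancel_mono J.subschemeι, Category.assoc, hs, ht, Category.id_comp]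
      inv_hom_id := by rw [← cancel_mono ι, Category.assoc, ht, hs, Category.id_comp] }
  have hc : (e ≪≫ eT).hom ≫ ι = e.hom ≫ J.subschemeι := by
    show (e.hom ≫ t) ≫ ι = _
    rw [Category.assoc, ht]
  refine ⟨e ≪≫ eT, ?_, ?_⟩
  · rw [← Category.assoc, hc, Category.assoc]
    exact he
  · rw [hker]
    exact ⟨(Scheme.Modules.pullbackCongr hc).app _ ≪≫ w⟩

end Groth.Agent.PointBlowUp
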