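import Groth.Agent.PointBlowUp.Pic
import Groth.Agent.PointBlowUp.ExcPoint
import Groth.Agent.Lib.BaseDescent
import Groth.Agent.Boundary.Components
import Groth.Agent.S1682

/-! Line bundles on the blowing up of a regular two-dimensional closed point which are trivial on the
exceptional curve come from the base. -/

noncomputable section

set_option autoImplicit false
set_option linter.style.haveILetI false
set_option linter.unusedSectionVars false
set_option backward.isDefEq.respectTransparency false
set_option backward.isDefEq.respectTransparency.types false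
set_option maxHeartbeats 1000000

universe u

open CategoryTheory CategoryTheory.Limits AlgebraicGeometry TopologicalSpace Opposite

namespace Groth.Agent.PointBlowUp

open Groth.Agent Groth.Agent.InvX Groth.Agent.H23

variable {X Y : Scheme.{u}} (f : X ⟶ Y)

/-- A frame over the whole preimage is a frame of the direct image when the functions agree. -/
theorem isFrame_push (hf : ∀ U : Y.Opens, Function.Bijective (f.app U)) {F : X.Modules} {V : Y.Opens}
    (e : Γ(F, f ⁻¹ᵁ V)) (he : IsFrame e) :
    IsFrame (M := (Scheme.Modules.pushforward f).obj F) (U := V) e := by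
  intro V' hV'
  have key : ∀ (r : Γ(Y, V')) (m : Γ((Scheme.Modules.pushforward f).obj F, V')),
      r • m = (show Γ((Scheme.Modules.pushforward f).obj F, V') from
        (f.app V' r) • (show Γ(F, f ⁻¹ᵁ V') from m)) := fun r m => QCoh.pushforward_smul f V' r m
  refine Iff.mp (Iff.of_eq (congrArg Function.Bijective (funext fun r => ?_)))
    ((he (f ⁻¹ᵁ V') (f.preimage_mono hV')).comp (hf V'))
  rw [key r]
  rfl

/-- A module with frames over the base descends. -/
theorem exists_descend (hf : ∀ U : Y.Opens, Function.Bijective (f.app U)) {F : X.Modules}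
    (hloc : ∀ z : Y, ∃ V : Y.Opens, z ∈ V ∧ ∃ s : Γ(F, f ⁻¹ᵁ V), IsFrame s) :
    ∃ L : Y.Modules, PicF.IsInvertible L ∧ Nonempty ((Scheme.Modules.pullback f).obj L ≅ F) := by
  choose V hV s hs using hloc
  let L := (Scheme.Modules.pushforward f).obj F
  have hL : ∀ z, IsFrame (M := L) (U := V z) (s z) := fun z => isFrame_push f hf (s z) (hs z)
  refine ⟨L, InvX.isInvertible_of_frames fun z => ⟨V z, hV z, s z, hL z⟩, ?_⟩
  let φ : (Scheme.Modules.pullback f).obj L ⟶ F :=
    ((Scheme.Modules.pullbackPushforwardAdjunction f).homEquiv L F).symm (𝟙 L)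
  have : IsIso φ := Boundary.isIso_of_frames φ (fun z => f ⁻¹ᵁ V z) (fun p => ⟨f p, hV (f p)⟩)
    (fun z => InvX.pullElt f (M := L) (U := V z) (s z)) (fun z => InvX.isFrame_pullElt f (hL z))
    fun z => by
      have h : φ.app (f ⁻¹ᵁ V z) (InvX.pullElt f (M := L) (U := V z) (s z)) = s z :=
        Boundary.pullback_adjunct_pullElt f (𝟙 L) _
      rw [h]
      exact hs z
  exact ⟨asIso φ⟩

/-- Pullback is injective on invertible modules when the functions agree. -/
theorem triv_of_pullback (hf : ∀ U : Y.Opens, Function.Bijective (f.app U)) {L : Y.Modules}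
    (hL : PicF.IsInvertible L) (h : TrivBasic.Triv ((Scheme.Modules.pullback f).obj L)) : TrivBasic.Triv L := by
  obtain ⟨w⟩ := h
  obtain ⟨u⟩ := PicClLib.nonempty_pullback_structureModule f
  let P := (Scheme.Modules.pullback f).obj L
  let ad := (Scheme.Modules.pullbackPushforwardAdjunction f).unit.app L
  have hex : ∀ z : Y, ∃ (V : Y.Opens) (η : Γ(L, V)), z ∈ V ∧ IsFrame η := fun z => by
    obtain ⟨V, hV, η, hη⟩ := InvX.exists_frame hL z
    exact ⟨V, η, hV, hη⟩
  choose V η hV hη using hex
  haveI : IsIso ad := Boundary.isIso_of_frames ad V (fun z => ⟨z, hV z⟩) η hη fun z =>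
    isFrame_push f hf (InvX.pullElt f (η z)) (InvX.isFrame_pullElt f (hη z))
  have h1 : IsFrame (M := Coh.structureModule X) (U := (⊤ : X.Opens)) (1 : Γ(X, ⊤)) := InvX.isFrame_one ⊤
  have h2 := isFrame_push f hf (V := ⊤) _ (h1.map_iso w.symm)
  exact TrivBasic.triv_of_frame (h2.map_iso (asIso ad).symm)

/-- A frame on an open containing a fibre gives a frame over a neighbourhood of the point. -/
theorem exists_frame_nhd_of_fibre [UniversallyClosed f] {F : X.Modules} {W : X.Opens} {e : Γ(F, W)}
    (he : IsFrame e) {z : Y} (hz : ∀ a, f a = z → a ∈ W) :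
    ∃ V : Y.Opens, z ∈ V ∧ ∃ s : Γ(F, f ⁻¹ᵁ V), IsFrame s := by
  let V : Y.Opens := ⟨(f '' (W : Set X)ᶜ)ᶜ, (f.isClosedMap _ W.2.isClosed_compl).isOpen_compl⟩
  have hVW : f ⁻¹ᵁ V ≤ W := fun a ha => by
    by_contra hna
    exact ha ⟨a, hna, rfl⟩
  exact ⟨V, fun ⟨a, ha, hfa⟩ => ha (hz a hfa), _, he.res hVW⟩

/-- Line bundles trivial on the exceptional curve come from the base. -/
theorem exists_descend_of_exc [IsLocallyNoetherian Y] [IsProper f] (y : Y) (hy : IsClosed ({y} : Set Y))
    [IsRegularLocalRing (Y.presheaf.stalk y)] (hdim : ringKrullDim (Y.presheaf.stalk y) = 2)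
    (hf : BlowUp.IsBlowUp f (Scheme.IdealSheafData.vanishingIdeal ⟨{y}, hy⟩))
    {F : X.Modules} (hF : PicF.IsInvertible F)
    (hE : TrivBasic.Triv ((Scheme.Modules.pullback
      (BlowUp.exceptional f (Scheme.IdealSheafData.vanishingIdeal ⟨{y}, hy⟩)).subschemeι).obj F)) :
    ∃ L : Y.Modules, PicF.IsInvertible L ∧ Nonempty ((Scheme.Modules.pullback f).obj L ≅ F) := by
  have hbij : ∀ U : Y.Opens, Function.Bijective (f.app U) := fun U =>
    (ConcreteCategory.isIso_iff_bijective _).1 (isIso_app_blowUp f y hy hdim hf U)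
  refine exists_descend f hbij fun z => ?_
  let JY := Scheme.IdealSheafData.vanishingIdeal (⟨{y}, hy⟩ : Closeds Y)
  by_cases hz : z = y
  · subst hz
    let g := Y.fromSpecStalk z
    haveI : Flat g := S4366.flat_fromSpecStalk z
    have hbl := S1680.result g _ f hf
    rw [ContractUP.comap_vanishingIdeal_point z hy] at hbl
    have hfl : BlowUp.IsBlowUp (pullback.fst g f)
        (Curv2.idealSheaf (Y.presheaf.stalk z) (IsLocalRing.maximalIdeal (Y.presheaf.stalk z))) := hbl
    let JX := BlowUp.exceptional f JY
    let JP := BlowUp.exceptional (pullback.fst g f)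
      (Curv2.idealSheaf (Y.presheaf.stalk z) (IsLocalRing.maximalIdeal (Y.presheaf.stalk z)))
    have hJ : JX.comap (pullback.snd g f) = JP := by
      refine Eq.trans ?_ (congrArg (fun I => Scheme.IdealSheafData.comap I (pullback.fst g f))
        (ContractUP.comap_vanishingIdeal_point z hy))
      show (JY.comap f).comap (pullback.snd g f) = (JY.comap g).comap (pullback.fst g f)
      rw [← Scheme.IdealSheafData.comap_comp, ← Scheme.IdealSheafData.comap_comp, pullback.condition]
    have hle : JX.subschemeι.ker ≤ (JP.subschemeι ≫ pullback.snd g f).ker := by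
      rw [Scheme.IdealSheafData.ker_subschemeι, ← Scheme.IdealSheafData.map_ker,
        Scheme.IdealSheafData.le_map_iff_comap_le, hJ, Scheme.IdealSheafData.ker_subschemeι]
    let q := IsClosedImmersion.lift JX.subschemeι (JP.subschemeι ≫ pullback.snd g f) hle
    have hq : q ≫ JX.subschemeι = JP.subschemeι ≫ pullback.snd g f := IsClosedImmersion.lift_fac _ _ _
    obtain ⟨w⟩ := hE
    obtain ⟨u⟩ := PicClLib.nonempty_pullback_structureModule q
    have hP : TrivBasic.Triv ((Scheme.Modules.pullback JP.subschemeι).obj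
        ((Scheme.Modules.pullback (pullback.snd g f)).obj F)) :=
      ⟨(Scheme.Modules.pullbackComp JP.subschemeι (pullback.snd g f)).app F ≪≫
        (Scheme.Modules.pullbackCongr hq.symm).app F ≪≫
        ((Scheme.Modules.pullbackComp q JX.subschemeι).app F).symm ≪≫
        (Scheme.Modules.pullback q).mapIso w ≪≫ u⟩
    obtain ⟨t⟩ := triv_of_exc (A := ↑(Y.presheaf.stalk z)) (pullback.fst g f) hdim hfl
      (PicClLib.isInvertible_pullback _ hF) hP
    obtain ⟨u₁⟩ := PicClLib.nonempty_pullback_structureModule (pullback.snd f g)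
    obtain ⟨u₂⟩ := PicClLib.nonempty_pullback_structureModule (pullbackSymmetry f g).hom
    obtain ⟨V, hV, s, hs⟩ := BaseDescent.exists_frame f hbij g F hF
      (N' := Coh.structureModule (Spec (Y.presheaf.stalk z))) H23.InvStalk.isInvertible_structureModule
      ((Scheme.Modules.pullbackCongr (pullbackSymmetry_hom_comp_snd f g).symm).app F ≪≫
        ((Scheme.Modules.pullbackComp (pullbackSymmetry f g).hom (pullback.snd g f)).app F).symm ≪≫
        (Scheme.Modules.pullback (pullbackSymmetry f g).hom).mapIso t ≪≫ u₂ ≪≫ u₁.symm)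
      (IsLocalRing.closedPoint (Y.presheaf.stalk z))
    exact ⟨V, by rwa [Scheme.fromSpecStalk_closedPoint] at hV, s, hs⟩
  · haveI hiso : IsIso (f ∣_ JY.support.compl) := S1682.result JY f hf
    have hzc : z ∈ JY.support.compl := by
      show z ∈ ((JY.support : Set Y))ᶜ
      simpa [JY, hy.closure_eq] using hz
    have huniq : ∀ a b, f a = z → f b = z → a = b := fun a b ha hb => by
      have h1 : (f ∣_ JY.support.compl) ⟨a, show f a ∈ JY.support.compl by rw [ha]; exact hzc⟩ =
          (f ∣_ JY.support.compl) ⟨b, show f b ∈ JY.support.compl by rw [hb]; exact hzc⟩ :=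
        Subtype.ext (by
          rw [morphismRestrict_base_coe, morphismRestrict_base_coe]
          exact ha.trans hb.symm)
      exact congrArg Subtype.val ((f ∣_ JY.support.compl).isOpenEmbedding.injective h1)
    by_cases hfib : ∃ a, f a = z
    · obtain ⟨a, ha⟩ := hfib
      obtain ⟨W, haW, e, he⟩ := InvX.exists_frame hF a
      exact exists_frame_nhd_of_fibre f he fun c hc => huniq a c ha hc ▸ haW
    · exact exists_frame_nhd_of_fibre f (W := ⊥) (e := 0) (Boundary.isFrame_of_eq_bot rfl 0)
        fun c hc => absurd ⟨c, hc⟩ hfib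

end Groth.Agent.PointBlowUp
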