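import Groth.Agent.P1Split.Basic
import Groth.Agent.PnPic.Twist
import Groth.Agent.PlaneBlowUp.Line
import Groth.Prelude.Def_ModelsG

/-! The degree one class on a projective line does not depend on the identification. -/

noncomputable section

set_option autoImplicit false
set_option linter.style.haveILetI false
set_option linter.unusedSectionVars false
set_option backward.isDefEq.respectTransparency false
set_option backward.isDefEq.respectTransparency.types false
set_option maxHeartbeats 1000000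

universe u

open CategoryTheory CategoryTheory.Limits AlgebraicGeometry TopologicalSpace
open scoped Groth.Agent.H23.PicMul

namespace Groth.Agent.PointBlowUp

open Groth.Agent

theorem deg_eq_of_cl {k : Type u} [Field k] {a b : ℤ}
    (h : PicF.cl (Twist.twistProjSpace 1 k a) = PicF.cl (Twist.twistProjSpace 1 k b)) : a = b := by
  obtain ⟨w⟩ := (PicGrp.cl_eq_cl_iff _ _).1 h
  have h1 := P1Split.deg_T k a
  have h2 := P1Split.deg_T k b
  rw [Curv2.deg, CurveCohLib.euler_congr w] at h1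
  rw [Curv2.deg] at h2
  exact h1.symm.trans h2

theorem pullCl_twist_zsmul {k k' : Type u} [Field k] [Field k'] (f : CohB1.ProjSpace 1 k ⟶ CohB1.ProjSpace 1 k')
    {d : ℤ} (hd : PicF.pullCl f (PicF.cl (Twist.twistProjSpace 1 k' 1)) = PicF.cl (Twist.twistProjSpace 1 k d)) (z : ℤ) :
    PicF.pullCl f (PicF.cl (Twist.twistProjSpace 1 k' z)) = PicF.cl (Twist.twistProjSpace 1 k (d * z)) := by
  induction z using Int.induction_on with
  | zero => rw [mul_zero, PnPic.cl_twistProjSpace_zero, PnPic.cl_twistProjSpace_zero, H23.PicMul.pullCl_one]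
  | succ i hi =>
    rw [← PnPic.cl_twistProjSpace_add, H23.PicMul.pullCl_mul, hi, hd, PnPic.cl_twistProjSpace_add, mul_add, mul_one]
  | pred i hi =>
    refine (PnPic.isUnit_cl_twist 1 k d).mul_right_cancel ?_
    conv_lhs => rw [← hd, ← H23.PicMul.pullCl_mul, PnPic.cl_twistProjSpace_add, sub_add_cancel, hi]
    rw [PnPic.cl_twistProjSpace_add]
    congr 2
    ring

/-- An isomorphism of projective lines respects `O(1)`. -/
theorem pullCl_twist_one_iso {k k' : Type u} [Field k] [Field k']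
    (σ : CohB1.ProjSpace 1 k ≅ CohB1.ProjSpace 1 k') :
    PicF.pullCl σ.hom (PicF.cl (Twist.twistProjSpace 1 k' 1)) = PicF.cl (Twist.twistProjSpace 1 k 1) := by
  obtain ⟨a⟩ := P1Split.nonempty_iso_T k
    (PicClLib.isInvertible_pullback σ.hom (P1Split.isInvertible_T k' 1))
  obtain ⟨a'⟩ := P1Split.nonempty_iso_T k'
    (PicClLib.isInvertible_pullback σ.inv (P1Split.isInvertible_T k 1))
  obtain ⟨d, hd⟩ : ∃ d, PicF.pullCl σ.hom (PicF.cl (Twist.twistProjSpace 1 k' 1)) = PicF.cl (Twist.twistProjSpace 1 k d) :=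
    ⟨_, (PicGrp.cl_eq_cl_iff _ _).2 ⟨a⟩⟩
  obtain ⟨d', hd'⟩ : ∃ d, PicF.pullCl σ.inv (PicF.cl (Twist.twistProjSpace 1 k 1)) = PicF.cl (Twist.twistProjSpace 1 k' d) :=
    ⟨_, (PicGrp.cl_eq_cl_iff _ _).2 ⟨a'⟩⟩
  have h1 := congrArg (PicF.pullCl σ.hom) hd'
  rw [PicClLib.pullCl_comp, σ.hom_inv_id, PicClLib.pullCl_id, pullCl_twist_zsmul σ.hom hd] at h1
  have h2 : d * d' = 1 := (deg_eq_of_cl h1).symm
  rw [hd]
  rcases Int.eq_one_or_neg_one_of_mul_eq_one h2 with rfl | rfl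
  · rfl
  exfalso
  obtain ⟨N, s, hs⟩ := PlaneBlowUp.gen_twist_one (k := k') 1
  obtain ⟨i, hi⟩ := hs (σ.hom (genericPoint (CohB1.ProjSpace 1 k : Scheme.{u})))
  obtain ⟨U, hU, hfr⟩ := InvX.mem_genLocus hi
  let s₀ : Γ(Twist.twistProjSpace 1 k' 1, ⊤) := InvX.one (s i)
  have hloc : σ.hom (genericPoint (CohB1.ProjSpace 1 k : Scheme.{u})) ∈ H23.TrivBasic.locus s₀ :=
    H23.TrivBasic.mem_locus_iff.2 ⟨U, hU, hfr⟩
  let τ : Γ((Scheme.Modules.pullback σ.hom).obj (Twist.twistProjSpace 1 k' 1), ⊤) := InvX.pullElt σ.hom s₀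
  have hτm : genericPoint (CohB1.ProjSpace 1 k : Scheme.{u}) ∈ H23.TrivBasic.locus τ := by
    rw [H23.TrivBasic.locus_pullElt (P1Split.isInvertible_T k' 1)]
    exact hloc
  obtain ⟨w⟩ := (PicGrp.cl_eq_cl_iff _ _).1 hd
  have hz := P1Split.h0_T k (-1)
  haveI : Module.Finite k (Coh.HH (CohB1.ProjSpace 1 k) (Twist.twistProjSpace 1 k (-1)) 0) :=
    CurveCohLib.finite_HH (k := k) (CurveDeg.isCoh_of_isInvertible (P1Split.isInvertible_T k (-1))) 0
  haveI : Subsingleton (Coh.HH (CohB1.ProjSpace 1 k) (Twist.twistProjSpace 1 k (-1)) 0) :=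
    Module.finrank_zero_iff.1 (by simpa using hz)
  have h0 : w.hom.app ⊤ τ = 0 :=
    (Sheaf.H.equiv₀ (Coh.toAb (Twist.twistProjSpace 1 k (-1))) isTerminalTop).symm.injective (Subsingleton.elim _ _)
  have hτ0 : τ = 0 := by
    have := congrArg (w.inv.app ⊤) h0
    rw [map_zero] at this
    rw [← this, ← CategoryTheory.comp_apply]
    show τ = (w.hom ≫ w.inv).app ⊤ τ
    rw [w.hom_inv_id]
    rfl
  obtain ⟨V, hV, h⟩ := H23.TrivBasic.mem_locus_iff.1 hτm
  rw [hτ0, map_zero] at h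
  haveI : Nonempty V := ⟨⟨_, hV⟩⟩
  exact one_ne_zero (h.coord_unique (r := (1 : Γ(CohB1.ProjSpace 1 k, V))) (r' := 0) le_rfl
    (by rw [map_zero, smul_zero, smul_zero]))

/-- The conormal class of an exceptional curve in any identification with the line. -/
theorem pullCl_exc {E X : Scheme.{u}} (ι : E ⟶ X) (hE : Models.IsExcCurve ι)
    {k : Type u} [Field k] (e : CohB1.ProjSpace 1 k ≅ E) :
    PicF.pullCl (e.hom ≫ ι) (PicF.cl (ClSub.idealMod ι.ker)) = PicF.cl (Twist.twistProjSpace 1 k 1) := by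
  obtain ⟨-, k', _, e', ⟨w⟩⟩ := hE
  have hw : PicF.pullCl (e'.hom ≫ ι) (PicF.cl (ClSub.idealMod ι.ker)) = PicF.cl (Twist.twistProjSpace 1 k' 1) :=
    (PicGrp.cl_eq_cl_iff _ _).2 ⟨w⟩
  rw [← pullCl_twist_one_iso (e ≪≫ e'.symm), ← hw, PicClLib.pullCl_comp]
  congr 1
  simp

end Groth.Agent.PointBlowUp
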