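import Groth.Agent.PointBlowUp.Line
import Groth.Agent.NefCurve.Relative
import Groth.Agent.ExpDescLib.Core
import Groth.Agent.H23.PicMul

/-! The Picard group of the blowing up of a two-dimensional regular local ring in its maximal ideal. -/

noncomputable section

set_option autoImplicit false
set_option linter.style.haveILetI false
set_option linter.unusedSectionVars false
set_option backward.isDefEq.respectTransparency false
set_option backward.isDefEq.respectTransparency.types false
set_option maxHeartbeats 1000000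

universe u

open CategoryTheory CategoryTheory.Limits AlgebraicGeometry TopologicalSpace Opposite IsLocalRing

namespace Groth.Agent.PointBlowUp

open Groth.Agent Groth.Agent.BlowUpLib Groth.Agent.InvX Groth.Agent.H23
open scoped Groth.Agent.H23.PicMul

variable {A : Type u} [CommRing A] [IsRegularLocalRing A] {X : Scheme.{u}} (b : X ⟶ Spec (CommRingCat.of A))

/-- The closed fibre is the support of the exceptional divisor. -/
theorem mem_exc_iff (w : X) :
    w ∈ (BlowUp.exceptional b (Curv2.idealSheaf A (maximalIdeal A))).support ↔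
      b w = closedPoint A := by
  rw [BlowUp.exceptional, Scheme.IdealSheafData.support_comap]
  show b w ∈ ((Curv2.idealSheaf A (maximalIdeal A)).support : Set _) ↔ _
  rw [Curv2.idealSheaf, Scheme.IdealSheafData.coe_support_ofIdealTop, Spec_zeroLocus, PrimeSpectrum.mem_zeroLocus]
  constructor
  · intro h
    refine PrimeSpectrum.ext (le_antisymm (le_maximalIdeal (b w).isPrime.ne_top) fun r hr => ?_)
    exact h (Ideal.mem_map_of_mem _ hr)
  · intro h r hr
    obtain ⟨r', hr', hrr⟩ := (Ideal.mem_map_iff_of_surjective _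
      (ConcreteCategory.bijective_of_isIso (Scheme.ΓSpecIso (CommRingCat.of A)).inv).2).1 hr
    obtain rfl := (ConcreteCategory.bijective_of_isIso (Scheme.ΓSpecIso (CommRingCat.of A)).inv).1 hrr
    rw [h]
    exact hr'

theorem deg_zero_of_iso {k : Type u} [Field k] {Y : Scheme.{u}} (t : Y ⟶ Spec (CommRingCat.of k))
    {M : Y.Modules} (e : M ≅ Coh.structureModule Y) : @Curv2.deg k _ Y ⟨t⟩ M 1 = 0 := by
  letI : Y.Over (Spec (CommRingCat.of k)) := ⟨t⟩
  rw [Curv2.deg, CurveCohLib.euler_congr e, Nat.cast_one, one_mul, sub_self]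

/-- A line bundle trivial on the exceptional curve is trivial. -/
theorem triv_of_exc (hA : ringKrullDim A = 2)
    (hb : BlowUp.IsBlowUp b (Curv2.idealSheaf A (maximalIdeal A))) {L : X.Modules} (hL : PicF.IsInvertible L)
    (hE : TrivBasic.Triv ((Scheme.Modules.pullback
      (BlowUp.exceptional b (Curv2.idealSheaf A (maximalIdeal A))).subschemeι).obj L)) : TrivBasic.Triv L := by
  obtain ⟨hp, hi, -, hfib, h1⟩ := main A hA b hb
  obtain ⟨q, hq, -⟩ := exists_notClosed_exc b hA hb
  let I := BlowUp.exceptional b (Curv2.idealSheaf A (maximalIdeal A))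
  letI : X.Over (Spec (CommRingCat.of A)) := ⟨b⟩
  haveI : IsProper (X ↘ Spec (CommRingCat.of A)) := hp
  have hnef : NefCurve.Relative.RelNef A (X := X) L := by
    intro K _ i J t hJ hd ht
    haveI := hJ
    haveI := hp
    let p : PrimeSpectrum A := ⟨RingHom.ker i, RingHom.ker_isPrime i⟩
    have himg : ∀ z, (J.subschemeι ≫ b) z = p := fun z => by
      rw [show J.subschemeι ≫ b = t ≫ Spec.map (CommRingCat.ofHom i) from ht.symm, Scheme.Hom.comp_apply]
      refine PrimeSpectrum.ext ?_
      show Ideal.comap i (t z).asIdeal = RingHom.ker i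
      rcases (t z).asIdeal.eq_bot_or_top with h | h
      · rw [h]; rfl
      · exact absurd h (t z).isPrime.ne_top
    have hpm : RingHom.ker i = maximalIdeal A := by
      refine IsLocalRing.eq_maximalIdeal ((PrimeSpectrum.isClosed_singleton_iff_isMaximal p).1 ?_)
      have hrange : Set.range (J.subschemeι ≫ b) = {p} := Set.eq_singleton_iff_unique_mem.2
        ⟨⟨Classical.arbitrary _, himg _⟩, by rintro _ ⟨z, rfl⟩; exact himg z⟩
      rw [← hrange]
      exact (J.subschemeι ≫ b).isClosedMap.isClosed_range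
    let φ : A →+* ResidueField A := IsLocalRing.residue A
    let i' : ResidueField A →+* K := Ideal.Quotient.lift _ i fun a ha => RingHom.mem_ker.1 (hpm.ge ha)
    let ιm : Spec (CommRingCat.of (ResidueField A)) ⟶ Spec (CommRingCat.of A) := Spec.map (CommRingCat.ofHom φ)
    have hfac : (t ≫ Spec.map (CommRingCat.ofHom i')) ≫ ιm = J.subschemeι ≫ b := by
      rw [Category.assoc, ← Spec.map_comp, ← CommRingCat.ofHom_comp]
      exact ht
    have hle : I.subschemeι.ker ≤ J.subschemeι.ker := by
      rw [Scheme.IdealSheafData.ker_subschemeι I]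
      refine Scheme.IdealSheafData.le_map_iff_comap_le.mp ?_
      rw [Scheme.IdealSheafData.map_ker, ← hfac]
      exact (ExcSmooth.centre_eq_ker (maximalIdeal A)).le.trans (Scheme.Hom.le_ker_comp _ _)
    let l := IsClosedImmersion.lift I.subschemeι J.subschemeι hle
    have hl : l ≫ I.subschemeι = J.subschemeι := IsClosedImmersion.lift_fac _ _ _
    obtain ⟨w⟩ := hE
    obtain ⟨u⟩ := PicClLib.nonempty_pullback_structureModule l
    exact (deg_zero_of_iso t ((Scheme.Modules.pullbackCongr hl.symm).app L ≪≫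
      ((Scheme.Modules.pullbackComp l I.subschemeι).app L).symm ≪≫
      (Scheme.Modules.pullback l).mapIso w ≪≫ u)).ge
  obtain ⟨hgg, -⟩ := NefCurve.Relative.main hfib h1 hL hnef
  obtain ⟨s, hs⟩ := ExpDescLib.exists_genLocus hL hgg q
  let σ : Γ(L, ⊤) := InvX.one s
  have hσ : q ∈ TrivBasic.locus σ := by
    obtain ⟨U, hU, h⟩ := InvX.mem_genLocus hs
    exact TrivBasic.mem_locus_iff.2 ⟨U, hU, h⟩
  obtain ⟨q', hq'⟩ : q ∈ Set.range I.subschemeι := by
    rw [Scheme.IdealSheafData.range_subschemeι]; exact hq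
  let τ : Γ((Scheme.Modules.pullback I.subschemeι).obj L, ⊤) := InvX.pullElt I.subschemeι σ
  have hτmem : q' ∈ TrivBasic.locus τ := by
    rw [TrivBasic.locus_pullElt hL]
    show I.subschemeι q' ∈ TrivBasic.locus σ
    rw [hq']
    exact hσ
  have hτ : τ ≠ 0 := fun h0 => by
    obtain ⟨U, hU, h⟩ := TrivBasic.mem_locus_iff.1 hτmem
    rw [h0, map_zero] at h
    haveI : Nonempty U := ⟨⟨q', hU⟩⟩
    exact one_ne_zero (h.coord_unique (r := (1 : Γ(I.subscheme, U))) (r' := 0) le_rfl (by rw [map_zero, smul_zero, smul_zero]))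
  have hΓ : IsField Γ(I.subscheme, ⊤) := by
    obtain ⟨hsurj, hker, -⟩ := local_thick A hA b hb 1 I.subschemeι
      (by rw [Scheme.IdealSheafData.ker_subschemeι, pow_one])
    rw [pow_one] at hker
    letI : Field (A ⧸ maximalIdeal A) := Ideal.Quotient.field _
    exact (((Ideal.quotEquivOfEq hker.symm).trans
      (RingHom.quotientKerEquivOfSurjective hsurj)).symm.toMulEquiv).isField (Field.toIsField _)
  have hframe := TrivBasic.isFrame_of_ne_zero hE hΓ hτ
  refine TrivBasic.triv_of_frame (TrivBasic.locus_eq_top_iff.1 (top_le_iff.1 fun z _ => ?_) : InvX.IsFrame σ)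
  have hm : closedPoint A ∈ closure ({b z} : Set (PrimeSpectrum A)) :=
    specializes_iff_mem_closure.1 (specializes_closedPoint (b z))
  haveI := hp
  have hsub : closure ({b z} : Set (PrimeSpectrum A)) ⊆ b '' closure ({z} : Set X) :=
    closure_minimal (Set.singleton_subset_iff.2 ⟨z, subset_closure rfl, rfl⟩)
      (b.isClosedMap _ isClosed_closure)
  obtain ⟨w, hw, hwm⟩ := hsub hm
  obtain ⟨w', hw'⟩ : w ∈ Set.range I.subschemeι := by
    rw [Scheme.IdealSheafData.range_subschemeι]; exact (mem_exc_iff b w).2 hwm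
  refine Specializes.mem_open (specializes_iff_mem_closure.2 hw) (TrivBasic.locus σ).2 ?_
  rw [← hw']
  exact TrivBasic.mem_locus_of_pullElt hL _ σ hframe w'

theorem isInvertible_of_cl_mul {L M : X.Modules} (hL : PicF.IsInvertible L)
    (h : PicF.cl M * PicF.cl L = 1) : PicF.IsInvertible M := by
  obtain ⟨D, hD, e⟩ := PicInv.exists_inverse hL
  have h' : PicF.cl L * PicF.cl D = 1 := (PicGrp.cl_eq_cl_iff _ _).2 e
  have : PicF.cl M = PicF.cl D := by
    rw [← mul_one (PicF.cl M), ← h', ← mul_assoc, h, one_mul]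
  obtain ⟨a⟩ := PicMul.cl_eq_iff.1 this
  exact PicMul.isInvertible_of_iso a.symm hD

/-- The classes of line bundles on the blowing up are the powers of the exceptional ideal. -/
theorem pic_local (hA : ringKrullDim A = 2)
    (hb : BlowUp.IsBlowUp b (Curv2.idealSheaf A (maximalIdeal A))) (M : X.Modules)
    (hM : ClSub.IsInverseOf M (ClSub.idealMod (BlowUp.exceptional b (Curv2.idealSheaf A (maximalIdeal A))))) :
    (∀ L : X.Modules, PicF.IsInvertible L → ∃ n : ℕ,
      PicF.cl L = PicF.cl (ClSub.idealMod (BlowUp.exceptional b (Curv2.idealSheaf A (maximalIdeal A)))) ^ n ∨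
        PicF.cl L = PicF.cl M ^ n) ∧
    ∀ n : ℕ, 1 ≤ n →
      PicF.cl (ClSub.idealMod (BlowUp.exceptional b (Curv2.idealSheaf A (maximalIdeal A)))) ^ n ≠ 1 := by
  obtain ⟨-, κ, _, e, ⟨w⟩⟩ := isExcCurve b hA hb
  let I := BlowUp.exceptional b (Curv2.idealSheaf A (maximalIdeal A))
  let j : CohB1.ProjSpace 1 κ ⟶ X := e.hom ≫ I.subschemeι
  have hIi : PicF.IsInvertible (ClSub.idealMod I) := (S8914.result _).2 hb.1
  have hker : I.subschemeι.ker = I := Scheme.IdealSheafData.ker_subschemeι _
  rw [hker] at w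
  have hcI : PicF.pullCl j (PicF.cl (ClSub.idealMod I)) = PicF.cl (Twist.twistProjSpace 1 κ 1) :=
    (PicGrp.cl_eq_cl_iff _ _).2 ⟨w⟩
  have hMI : PicF.cl M * PicF.cl (ClSub.idealMod I) = 1 :=
    (PicMul.cl_tensor _ _).symm.trans (PicMul.cl_eq_iff.2 hM)
  have hMi : PicF.IsInvertible M := isInvertible_of_cl_mul hIi hMI
  have hpowI : ∀ n : ℕ, PicF.pullCl j (PicF.cl (ClSub.idealMod I) ^ n) = PicF.cl (Twist.twistProjSpace 1 κ n) := by
    intro n
    rw [PicMul.pullCl_pow, hcI]
    induction n with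
    | zero => rw [pow_zero, Nat.cast_zero, PnPic.cl_twistProjSpace_zero]
    | succ n ih => rw [pow_succ, ih, PnPic.cl_twistProjSpace_add]; congr 2
  have hpowM : ∀ n : ℕ, PicF.pullCl j (PicF.cl M ^ n) = PicF.cl (Twist.twistProjSpace 1 κ (-(n : ℤ))) := by
    intro n
    refine (PnPic.isUnit_cl_twist 1 κ (n : ℤ)).mul_right_cancel ?_
    conv_lhs => rw [← hpowI n]
    rw [← PicMul.pullCl_mul, ← mul_pow, hMI, one_pow, PicMul.pullCl_one, PnPic.cl_twistProjSpace_add,
      neg_add_cancel, PnPic.cl_twistProjSpace_zero]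
  have htriv : ∀ L : X.Modules, PicF.IsInvertible L → PicF.pullCl j (PicF.cl L) = 1 → PicF.cl L = 1 := by
    intro L hL h
    refine PicMul.cl_eq_iff.2 (triv_of_exc b hA hb hL (PicMul.cl_eq_iff.1 ?_))
    show PicF.pullCl I.subschemeι (PicF.cl L) = 1
    rw [show I.subschemeι = e.inv ≫ j from (e.inv_hom_id_assoc _).symm, ← PicClLib.pullCl_comp, h,
      PicMul.pullCl_one]
  refine ⟨fun L hL => ?_, fun n hn h => ?_⟩
  · obtain ⟨a⟩ := P1Split.nonempty_iso_T κ (PicClLib.isInvertible_pullback j hL)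
    have hd : PicF.pullCl j (PicF.cl L) = PicF.cl (Twist.twistProjSpace 1 κ
        (Curv2.deg κ (CohB1.ProjSpace 1 κ) ((Scheme.Modules.pullback j).obj L) 1)) :=
      (PicGrp.cl_eq_cl_iff _ _).2 ⟨a⟩
    generalize Curv2.deg κ (CohB1.ProjSpace 1 κ) ((Scheme.Modules.pullback j).obj L) 1 = d at hd
    obtain ⟨n, rfl | rfl⟩ := Int.eq_nat_or_neg d
    · refine ⟨n, Or.inl ?_⟩
      have h := htriv _ (PicMul.isInvertible_tensor hL (InvX.isInvertible_tensorPow hMi n)) (by
        rw [PicMul.cl_tensor, PicMul.pullCl_mul, hd, PicMul.cl_tensorPow, hpowM, PnPic.cl_twistProjSpace_add,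
          add_neg_cancel, PnPic.cl_twistProjSpace_zero])
      rw [PicMul.cl_tensor, PicMul.cl_tensorPow] at h
      rw [← mul_one (PicF.cl L), ← one_pow n, ← hMI, mul_pow, ← mul_assoc, h, one_mul]
    · refine ⟨n, Or.inr ?_⟩
      have h := htriv _ (PicMul.isInvertible_tensor hL (InvX.isInvertible_tensorPow hIi n)) (by
        rw [PicMul.cl_tensor, PicMul.pullCl_mul, hd, PicMul.cl_tensorPow, hpowI, PnPic.cl_twistProjSpace_add,
          neg_add_cancel, PnPic.cl_twistProjSpace_zero])
      rw [PicMul.cl_tensor, PicMul.cl_tensorPow] at h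
      rw [← mul_one (PicF.cl L), ← one_pow n, ← hMI, mul_comm (PicF.cl M), mul_pow, ← mul_assoc, h, one_mul]
  · have h1 := hpowI n
    rw [h, PicMul.pullCl_one, ← PnPic.cl_twistProjSpace_zero 1 κ] at h1
    obtain ⟨a⟩ := PicMul.cl_eq_iff.1 h1
    have h2 := P1Split.deg_T κ (n : ℤ)
    rw [Curv2.deg, CurveCohLib.euler_congr a.symm, ← Curv2.deg, P1Split.deg_T] at h2
    omega

end Groth.Agent.PointBlowUp
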