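import Groth.Agent.PointBlowUp.IdealPow
import Groth.Agent.NefCurve.Embed
import Groth.Agent.CurveAlgEqLib.IdealPull
import Groth.Agent.P1Split.Basic
import Groth.Agent.PnPic.Twist
import Groth.Agent.ExcSmooth.Main

/-! The blowing up of a two-dimensional regular local ring in its maximal ideal is a closed subscheme of
the projective line over the ring; its exceptional divisor is a projective line over the residue field. -/

noncomputable section

set_option autoImplicit false
set_option linter.style.haveILetI false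
set_option linter.unusedSectionVars false
set_option backward.isDefEq.respectTransparency false
set_option backward.isDefEq.respectTransparency.types false
set_option maxHeartbeats 1000000

universe u

open CategoryTheory CategoryTheory.Limits AlgebraicGeometry TopologicalSpace Opposite IsLocalRing

namespace Groth.Agent.PointBlowUp

open Groth.Agent Groth.Agent.BlowUpLib Groth.Agent.InvX Groth.Agent.H23

/-- A function lying in an ideal sheaf on every affine open is a section of its module. -/
theorem exists_global_sect {X : Scheme.{u}} (K : X.IdealSheafData) (r : Γ(X, ⊤))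
    (h : ∀ U : X.affineOpens, X.presheaf.map (homOfLE (le_top : U.1 ≤ ⊤)).op r ∈ K.ideal U) :
    ∃ k, OmegaSh.idealSect K ⊤ k = r := by
  refine OmegaLib.exists_idealSect_eq K ⊤ r ?_
  refine TopCat.Sheaf.eq_of_locally_eq' K.subscheme.sheaf (fun U : X.affineOpens => K.subschemeι ⁻¹ᵁ U.1)
    (K.subschemeι ⁻¹ᵁ ⊤) (fun U => homOfLE le_top) ?_ _ _ fun U => ?_
  · intro z _
    obtain ⟨_, ⟨V, hV, rfl⟩, hzV, -⟩ :=
      X.isBasis_affineOpens.exists_subset_of_mem_open (Set.mem_univ (K.subschemeι z)) isOpen_univ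
    exact Opens.mem_iSup.2 ⟨⟨V, hV⟩, hzV⟩
  · have hm := h U
    rw [← K.ker_subschemeι_app, RingHom.mem_ker] at hm
    have hn := congr($(K.subschemeι.naturality (homOfLE (le_top : U.1 ≤ ⊤)).op) r)
    erw [map_zero]
    exact hn.symm.trans hm

/-- A section generating an invertible ideal on an affine open is a frame there. -/
theorem le_locus_of_span {X : Scheme.{u}} {I : X.IdealSheafData} (hI : PicF.IsInvertible (ClSub.idealMod I))
    (U : X.affineOpens) (k : Γ(ClSub.idealMod I, ⊤))
    (h : I.ideal U = Ideal.span {X.presheaf.map (homOfLE (le_top : U.1 ≤ ⊤)).op (OmegaSh.idealSect I ⊤ k)}) :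
    U.1 ≤ TrivBasic.locus k := by
  intro p hp
  obtain ⟨W₀, h₀, ε₀, hε₀⟩ := InvX.exists_frame hI p
  obtain ⟨W, hW, hpW, hle⟩ := exists_isAffineOpen_mem_and_subset (U := W₀ ⊓ U.1) (show p ∈ W₀ ⊓ U.1 from ⟨h₀, hp⟩)
  refine TrivBasic.le_locus (U := W) ?_ hpW
  refine CurveAlgEqLib.isFrame_of_span I ⟨W, hW⟩ (hε₀.res (fun z hz => (hle hz).1)) ?_
  rw [← I.map_ideal (U := ⟨W, hW⟩) (V := U) (fun z hz => (hle hz).2), h, Ideal.map_span, Set.image_singleton]
  congr 2
  refine Eq.trans ?_ (OmegaLib.idealSect_map I (le_top : W ≤ ⊤) k).symm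
  rw [← CommRingCat.comp_apply, ← Functor.map_comp]
  rfl

variable {A : Type u} [CommRing A] [IsRegularLocalRing A]

variable (A) in
/-- The exceptional divisor of `Z A`. -/
abbrev J : (Z A).IdealSheafData := (Curv2.idealSheaf A (maximalIdeal A)).comap (toA A)

theorem isInvertible_J : PicF.IsInvertible (ClSub.idealMod (J A)) :=
  (S8914.result _).2 (isBlowUp_local (maximalIdeal A)).1

theorem basicOpen_fracSec_le (a b : maximalIdeal A) :
    (Z A).basicOpen (fracSec a b) ≤ (chart (maximalIdeal A) b).opensRange := by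
  intro p hp
  obtain ⟨q, hq⟩ : p ∈ (chart (maximalIdeal A) a).opensRange := (Z A).basicOpen_le _ hp
  subst hq
  refine chart_overlap (maximalIdeal A) b a (x := q) ?_
  have h3 : q ∈ (chart (maximalIdeal A) a) ⁻¹ᵁ (Z A).basicOpen (fracSec a b) := hp
  rw [Scheme.preimage_basicOpen, ← Scheme.basicOpen_res_eq _ _ (eqToHom (show (⊤ : (Spec (CommRingCat.of
      (BlowUp.affineAlgebra A (maximalIdeal A) (a : A)))).Opens) = (chart _ a) ⁻¹ᵁ
        (chart (maximalIdeal A) a).opensRange from
      (top_le_iff.1 fun z _ => ⟨z, rfl⟩).symm)).op, basicOpen_eq_of_affine'] at h3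
  have h4 := chartHom_fracSec a b
  show ((⟨_, _⟩ : BlowUp.affineAlgebra A (maximalIdeal A) (a : A))) ∉ q.asIdeal
  rw [← h4]
  exact h3

theorem ideal_J_chart (a b : maximalIdeal A) (hab : Ideal.span {(a : A), (b : A)} = maximalIdeal A) :
    (J A).ideal ⟨(chart (maximalIdeal A) a).opensRange, isAffineOpen_opensRange _⟩ =
      Ideal.span {(Z A).presheaf.map (homOfLE le_top).op (scal A a)} := by
  have h := ideal_comap_pow A (toA A) 1 ⟨(chart (maximalIdeal A) a).opensRange, isAffineOpen_opensRange _⟩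
  have hm : (maximalIdeal A).map (scalOf (toA A)) = Ideal.span {scal A a, scal A b} := by
    conv_lhs => rw [← hab, Ideal.map_span, Set.image_pair]
    rfl
  rw [pow_one, pow_one, hm, Ideal.map_span, Set.image_pair] at h
  refine h.trans (le_antisymm (Ideal.span_le.2 ?_) (Ideal.span_mono (Set.singleton_subset_iff.2 (Set.mem_insert _ _))))
  rintro z (rfl | rfl)
  · exact Ideal.subset_span rfl
  · exact Ideal.mem_span_singleton'.2 ⟨fracSec a b, (mul_comm _ _).trans (scal_mul_fracSec a b)⟩

theorem res_eq_fracSec_smul (a b : maximalIdeal A) {ka kb : Γ(ClSub.idealMod (J A), ⊤)}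
    (ha : OmegaSh.idealSect (J A) ⊤ ka = scal A a) (hb : OmegaSh.idealSect (J A) ⊤ kb = scal A b) :
    AModX.res (ClSub.idealMod (J A)) le_top kb =
      fracSec a b • AModX.res (ClSub.idealMod (J A)) (le_top : (chart (maximalIdeal A) a).opensRange ≤ ⊤) ka := by
  refine OmegaLib.idealSect_injective (J A) _ ?_
  rw [OmegaLib.idealSect_smul]
  erw [OmegaLib.idealSect_map, OmegaLib.idealSect_map, ha, hb]
  rw [mul_comm]
  exact (scal_mul_fracSec a b).symm

theorem locus_eq_chart (a b : maximalIdeal A) (hab : Ideal.span {(a : A), (b : A)} = maximalIdeal A)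
    {ka kb : Γ(ClSub.idealMod (J A), ⊤)}
    (ha : OmegaSh.idealSect (J A) ⊤ ka = scal A a) (hb : OmegaSh.idealSect (J A) ⊤ kb = scal A b) :
    TrivBasic.locus ka = (chart (maximalIdeal A) a).opensRange := by
  have hb' : Ideal.span {(b : A), (a : A)} = maximalIdeal A := by rw [Set.pair_comm]; exact hab
  refine le_antisymm (fun p hp => ?_) (le_locus_of_span isInvertible_J ⟨_, isAffineOpen_opensRange _⟩ ka
    (by rw [ha]; exact ideal_J_chart a b hab))
  have hcov : p ∈ (chart (maximalIdeal A) a).opensRange ⊔ (chart (maximalIdeal A) b).opensRange :=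
    (chart_covers_two a b hab).ge (show p ∈ (⊤ : (Z A).Opens) from trivial)
  rcases hcov with h | h
  · exact h
  have hV : (chart (maximalIdeal A) b).opensRange ≤ TrivBasic.locus kb :=
    le_locus_of_span isInvertible_J ⟨_, isAffineOpen_opensRange _⟩ kb (by rw [hb]; exact ideal_J_chart b a hb')
  have h2 := TrivBasic.locus_eq_basicOpen (TrivBasic.isFrame_res_of_le_locus hV) (res_eq_fracSec_smul b a hb ha)
  exact basicOpen_fracSec_le b a (h2.le ⟨hp, h⟩)

theorem subring_eq_top (a b : maximalIdeal A) (hab : Ideal.span {(a : A), (b : A)} = maximalIdeal A)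
    {ka kb : Γ(ClSub.idealMod (J A), ⊤)}
    (ha : OmegaSh.idealSect (J A) ⊤ ka = scal A a) (hb : OmegaSh.idealSect (J A) ⊤ kb = scal A b)
    (W : (Z A).Opens) (hW : W = (chart (maximalIdeal A) a).opensRange) (S : Subring Γ(Z A, W))
    (hc : ∀ c : A, (Z A).presheaf.map (homOfLE (le_top : W ≤ ⊤)).op (scal A c) ∈ S)
    (hs : ∀ r : Γ(Z A, W), AModX.res (ClSub.idealMod (J A)) le_top kb =
      r • AModX.res (ClSub.idealMod (J A)) (le_top : W ≤ ⊤) ka → r ∈ S) : S = ⊤ := by
  subst hW
  rw [eq_top_iff, ← chartHom_generated a b hab, Subring.closure_le]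
  rintro z (⟨c, rfl⟩ | rfl)
  · exact hc c
  · exact hs _ (res_eq_fracSec_smul a b ha hb)

/-- The blowing up is a closed subscheme of the projective line over the base. -/
theorem exists_line_Z (hA : ringKrullDim A = 2) :
    ∃ r : Z A ⟶ CohB1.ProjSpace 1 A, IsClosedImmersion r ∧ r ≫ CohB1.ProjSpace.toSpec 1 A = toA A ∧
      Nonempty ((Scheme.Modules.pullback r).obj (Twist.twistProjSpace 1 A 1) ≅ ClSub.idealMod (J A)) := by
  obtain ⟨x, y, -, -, hxy⟩ := exists_params A hA
  let a : maximalIdeal A := ⟨x, hxy ▸ Ideal.subset_span (Set.mem_insert _ _)⟩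
  let b : maximalIdeal A := ⟨y, hxy ▸ Ideal.subset_span (Set.mem_insert_of_mem _ rfl)⟩
  have hex : ∀ c : maximalIdeal A, ∃ k, OmegaSh.idealSect (J A) ⊤ k = scal A c := fun c =>
    exists_global_sect _ _ fun U => by
      have h := ideal_comap_pow A (toA A) 1 U
      rw [pow_one, pow_one] at h
      exact h.ge (Ideal.mem_map_of_mem _ (Ideal.mem_map_of_mem _ c.2))
  obtain ⟨ka, ha⟩ := hex a
  obtain ⟨kb, hb⟩ := hex b
  have hba : Ideal.span {(b : A), (a : A)} = maximalIdeal A := by rw [Set.pair_comm]; exact hxy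
  have hUa := locus_eq_chart a b hxy ha hb
  have hUb := locus_eq_chart b a hba hb ha
  refine NefCurve.Embed.exists_closedImmersion_fixed (toA A) isInvertible_J 1 ![ka, kb] (fun _ => True) ?_ ?_ ?_
  · intro i _
    fin_cases i
    · show IsAffineOpen (TrivBasic.locus ka)
      rw [hUa]; exact isAffineOpen_opensRange _
    · show IsAffineOpen (TrivBasic.locus kb)
      rw [hUb]; exact isAffineOpen_opensRange _
  · intro p
    rcases (chart_covers_two a b hxy).ge (show p ∈ (⊤ : (Z A).Opens) from trivial) with h | h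
    · exact ⟨0, trivial, show p ∈ TrivBasic.locus ka from hUa.ge h⟩
    · exact ⟨1, trivial, show p ∈ TrivBasic.locus kb from hUb.ge h⟩
  · intro i _ S hc hs
    fin_cases i
    · exact subring_eq_top a b hxy ha hb _ hUa S (fun c => hc c) fun r hr => hs 1 r hr
    · exact subring_eq_top b a hba hb ha _ hUb S (fun c => hc c) fun r hr => hs 0 r hr

/-- The affine blow-up algebra maps to the chart inside the fraction field. -/
theorem exists_toFracChart [IsDomain A] (hA : ringKrullDim A = 2) {x y : A} (hx : x ∈ maximalIdeal A)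
    (hxy : Ideal.span {x, y} = maximalIdeal A) :
    ∃ χ : BlowUp.affineAlgebra A (maximalIdeal A) x →+* RatSingReg.chart (FractionRing A) x y,
      ∀ r, χ (algebraMap A _ r) = RatSingReg.toChart (FractionRing A) r := by
  let P := RatSingReg.params_of_span hA hxy
  let K := FractionRing A
  let ψ : Localization.Away x →+* K := IsLocalization.Away.lift x (g := algebraMap A K)
    (IsUnit.mk0 _ (RatSingReg.algebraMap_ne K P.xne))
  have hψ : ∀ r, ψ (algebraMap A _ r) = algebraMap A K r := IsLocalization.Away.lift_eq _ _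
  have hψm : ∀ z : BlowUp.affineAlgebra A (maximalIdeal A) x, ψ z.1 ∈ RatSingReg.chart K x y := by
    rintro ⟨z, hz⟩
    induction hz using Algebra.adjoin_induction with
    | algebraMap r => show ψ (algebraMap A _ r) ∈ _; rw [hψ]; exact RatSingReg.algebraMap_mem_chart K r
    | add p q _ _ hp hq => show ψ (p + q) ∈ _; rw [map_add]; exact add_mem hp hq
    | mul p q _ _ hp hq => show ψ (p * q) ∈ _; rw [map_mul]; exact mul_mem hp hq
    | mem p hp =>
      obtain ⟨c, hc, rfl⟩ := hp
      rw [← hxy, Ideal.mem_span_pair] at hc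
      obtain ⟨r, s, rfl⟩ := hc
      show ψ (IsLocalization.mk' (Localization.Away x) (r * x + s * y) ⟨x, Submonoid.mem_powers _⟩) ∈ _
      have : ψ (IsLocalization.mk' (Localization.Away x) (r * x + s * y) ⟨x, Submonoid.mem_powers _⟩) =
          algebraMap A K r + algebraMap A K s * RatSingReg.frac K x y := by
        refine mul_left_cancel₀ (RatSingReg.algebraMap_ne K P.xne) ?_
        have h1 : ψ (algebraMap A _ x) * ψ (IsLocalization.mk' (Localization.Away x) (r * x + s * y)
            ⟨x, Submonoid.mem_powers _⟩) = ψ (algebraMap A _ (r * x + s * y)) := by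
          rw [← map_mul]
          exact congrArg ψ (IsLocalization.mk'_spec' (Localization.Away x) (r * x + s * y)
            ⟨x, Submonoid.mem_powers _⟩)
        rw [hψ, hψ] at h1
        rw [h1, mul_add, mul_left_comm, RatSingReg.mul_frac K P, map_add, map_mul, map_mul,
          mul_comm (algebraMap A K x)]
      rw [this]
      exact add_mem (RatSingReg.algebraMap_mem_chart K r)
        (mul_mem (RatSingReg.algebraMap_mem_chart K s) (RatSingReg.frac_mem_chart K))
  exact ⟨(ψ.comp (BlowUp.affineAlgebra A (maximalIdeal A) x).val.toRingHom).codRestrict _ hψm,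
    fun r => Subtype.ext (by rw [RatSingReg.coe_toChart]; exact hψ r)⟩

/-- The generic point of the exceptional curve is not closed. -/
theorem exists_notClosed_mem_J (hA : ringKrullDim A = 2) :
    ∃ q : Z A, q ∈ (J A).support ∧ ¬ IsClosed ({q} : Set (Z A)) := by
  haveI := RegLoc6.isDomain_of_isRegularLocalRing A
  obtain ⟨x, y, -, -, hxy⟩ := exists_params A hA
  let P := RatSingReg.params_of_span hA hxy
  let K := FractionRing A
  let a : maximalIdeal A := ⟨x, hxy ▸ Ideal.subset_span (Set.mem_insert _ _)⟩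
  let b : maximalIdeal A := ⟨y, hxy ▸ Ideal.subset_span (Set.mem_insert_of_mem _ rfl)⟩
  obtain ⟨χ, hχ⟩ := exists_toFracChart hA a.2 hxy
  haveI := RatSingReg.isPrime_span_chart K P
  let B := BlowUp.affineAlgebra A (maximalIdeal A) (a : A)
  let 𝔭 : Ideal B := Ideal.comap χ (Ideal.span {RatSingReg.toChart K (x := x) (y := y) x})
  haveI h𝔭 : 𝔭.IsPrime := Ideal.IsPrime.comap χ
  let q : Spec (CommRingCat.of B) := (⟨𝔭, h𝔭⟩ : PrimeSpectrum B)
  refine ⟨chart (maximalIdeal A) a q, ?_, fun hc => ?_⟩
  · rw [Scheme.IdealSheafData.support_comap]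
    show toA A (chart (maximalIdeal A) a q) ∈ ((Curv2.idealSheaf A (maximalIdeal A)).support : Set _)
    rw [← Scheme.Hom.comp_apply, chart_toBase, Curv2.idealSheaf, Scheme.IdealSheafData.coe_support_ofIdealTop,
      Spec_zeroLocus, PrimeSpectrum.mem_zeroLocus]
    intro r hr
    obtain ⟨r', hr', hrr⟩ := (Ideal.mem_map_iff_of_surjective _
      (ConcreteCategory.bijective_of_isIso (Scheme.ΓSpecIso (CommRingCat.of A)).inv).2).1 hr
    obtain rfl := (ConcreteCategory.bijective_of_isIso (Scheme.ΓSpecIso (CommRingCat.of A)).inv).1 hrr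
    show χ (algebraMap A B r') ∈ Ideal.span {RatSingReg.toChart K (x := x) (y := y) x}
    rw [hχ, RatSingReg.map_maximalIdeal_chart K P]
    exact Ideal.mem_map_of_mem _ hr'
  · have hq : IsClosed ({q} : Set (Spec (CommRingCat.of B))) := by
      have := hc.preimage (chart (maximalIdeal A) a).continuous
      rwa [show (chart (maximalIdeal A) a) ⁻¹' {chart (maximalIdeal A) a q} = ({q} : Set _) from
        Set.ext fun z => ⟨fun h => (chart (maximalIdeal A) a).isOpenEmbedding.injective h, fun h => congrArg _ h⟩] at this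
    have hmax : 𝔭.IsMaximal := (PrimeSpectrum.isClosed_singleton_iff_isMaximal _).1 hq
    let t : B := ⟨IsLocalization.mk' (Localization.Away (a : A)) (b : A) ⟨(a : A), Submonoid.mem_powers _⟩,
      Algebra.subset_adjoin ⟨b, b.2, rfl⟩⟩
    have ht : χ t = RatSingReg.present K x y Polynomial.X := by
      haveI : IsDomain (RatSingReg.chart K x y) := inferInstance
      have hne : RatSingReg.toChart K (x := x) (y := y) x ≠ 0 := fun h => RatSingReg.algebraMap_ne K P.xne (by
        rw [← RatSingReg.coe_toChart K (x := x) (y := y) x, h]; rfl)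
      refine mul_left_cancel₀ hne ?_
      rw [← hχ, ← map_mul]
      have h1 : algebraMap A B x * t = algebraMap A B y :=
        Subtype.ext (IsLocalization.mk'_spec' (Localization.Away (a : A)) (b : A) ⟨(a : A), Submonoid.mem_powers _⟩)
      rw [h1, hχ, hχ]
      refine Subtype.ext ?_
      rw [Subring.coe_mul, RatSingReg.coe_toChart, RatSingReg.coe_toChart,
        show ((RatSingReg.present K x y Polynomial.X : RatSingReg.chart K x y) : K) = RatSingReg.frac K x y from
          Polynomial.aeval_X _, RatSingReg.mul_frac K P]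
    have key : ∀ F : Polynomial A, RatSingReg.present K x y F ∈ Ideal.span {RatSingReg.toChart K (x := x) (y := y) x} →
        ∀ i, F.coeff i ∈ maximalIdeal A := by
      intro F hF
      obtain ⟨c, hc⟩ := Ideal.mem_span_singleton'.1 hF
      obtain ⟨Q, rfl⟩ := RatSingReg.present_surjective K c
      have h0 : F - Q * Polynomial.C x ∈ (maximalIdeal A).map (Polynomial.C : A →+* Polynomial A) :=
        RatSingReg.ker_present_le K P (by
          rw [RingHom.mem_ker, map_sub, map_mul, sub_eq_zero]
          exact hc.symm)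
      refine Ideal.mem_map_C_iff.1 ?_
      rw [show F = (F - Q * Polynomial.C x) + Q * Polynomial.C x by ring]
      exact Ideal.add_mem _ h0 (Ideal.mul_mem_left _ _ (Ideal.mem_map_of_mem _ P.xmem))
    have htp : t ∉ 𝔭 := fun h => by
      have h' : χ t ∈ Ideal.span {RatSingReg.toChart K (x := x) (y := y) x} := h
      rw [ht] at h'
      have := key _ h' 1
      rw [Polynomial.coeff_X_one] at this
      exact (maximalIdeal.isMaximal A).ne_top ((Ideal.eq_top_iff_one _).2 this)
    obtain ⟨c, i, hi, hci⟩ := hmax.exists_inv htp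
    obtain ⟨F, hF⟩ := RatSingReg.present_surjective K (χ c)
    have h' : RatSingReg.present K x y (F * Polynomial.X - 1) ∈
        Ideal.span {RatSingReg.toChart K (x := x) (y := y) x} := by
      rw [map_sub, map_mul, map_one, hF, ← ht, ← map_mul, ← map_one χ, ← map_sub,
        show c * t - 1 = -i by rw [← hci]; ring, map_neg]
      exact neg_mem hi
    have h2 := key _ h' 0
    rw [Polynomial.coeff_sub, Polynomial.coeff_mul_X_zero, Polynomial.coeff_one_zero, zero_sub, neg_mem_iff] at h2
    exact (maximalIdeal.isMaximal A).ne_top ((Ideal.eq_top_iff_one _).2 h2)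

theorem nonempty_pull_trans {P Y Q : Scheme.{u}} (i : P ⟶ Y) (r : Y ⟶ Q) (m : P ⟶ Q) (h : i ≫ r = m)
    {O : Q.Modules} {M : Y.Modules} {N : P.Modules} (e₁ : (Scheme.Modules.pullback r).obj O ≅ M)
    (e₂ : (Scheme.Modules.pullback m).obj O ≅ N) : Nonempty ((Scheme.Modules.pullback i).obj M ≅ N) := by
  subst h
  exact ⟨(Scheme.Modules.pullback i).mapIso e₁.symm ≪≫ (Scheme.Modules.pullbackComp i r).app O ≪≫ e₂⟩

variable {X : Scheme.{u}} (b : X ⟶ Spec (CommRingCat.of A))

/-- A blowing up of a two-dimensional regular local ring in its maximal ideal is a closed subscheme of the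
projective line. -/
theorem exists_line (hA : ringKrullDim A = 2)
    (hb : BlowUp.IsBlowUp b (Curv2.idealSheaf A (maximalIdeal A))) :
    ∃ r : X ⟶ CohB1.ProjSpace 1 A, IsClosedImmersion r ∧ r ≫ CohB1.ProjSpace.toSpec 1 A = b ∧
      Nonempty ((Scheme.Modules.pullback r).obj (Twist.twistProjSpace 1 A 1) ≅
        ClSub.idealMod (BlowUp.exceptional b (Curv2.idealSheaf A (maximalIdeal A)))) := by
  obtain ⟨e, he⟩ := exists_iso hb (isBlowUp_local (maximalIdeal A))
  obtain ⟨r₀, hr₀, hr₀b, ⟨i₀⟩⟩ := exists_line_Z hA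
  haveI := hr₀
  have hJ : (J A).comap e.hom = BlowUp.exceptional b (Curv2.idealSheaf A (maximalIdeal A)) := by
    rw [BlowUp.exceptional, J, ← Scheme.IdealSheafData.comap_comp, he]
  have hI : PicF.IsInvertible (ClSub.idealMod ((J A).comap e.hom)) := by
    rw [hJ]; exact (S8914.result _).2 hb.1
  obtain ⟨j⟩ := CurveAlgEqLib.nonempty_pullback_idealMod e.hom isInvertible_J hI
  refine ⟨e.hom ≫ r₀, inferInstance, by rw [Category.assoc, hr₀b, he], ?_⟩
  rw [← hJ]
  exact ⟨((Scheme.Modules.pullbackComp e.hom r₀).app _).symm ≪≫ (Scheme.Modules.pullback e.hom).mapIso i₀ ≪≫ j⟩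

theorem exists_notClosed_exc (hA : ringKrullDim A = 2)
    (hb : BlowUp.IsBlowUp b (Curv2.idealSheaf A (maximalIdeal A))) :
    ∃ q : X, q ∈ (BlowUp.exceptional b (Curv2.idealSheaf A (maximalIdeal A))).support ∧
      ¬ IsClosed ({q} : Set X) := by
  obtain ⟨e, he⟩ := exists_iso hb (isBlowUp_local (maximalIdeal A))
  obtain ⟨q, hq, hnc⟩ := exists_notClosed_mem_J (A := A) hA
  refine ⟨e.inv q, ?_, fun hc => hnc ?_⟩
  · rw [BlowUp.exceptional, Scheme.IdealSheafData.support_comap]
    show b (e.inv q) ∈ ((Curv2.idealSheaf A (maximalIdeal A)).support : Set _)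
    rw [← Scheme.Hom.comp_apply, show e.inv ≫ b = toA A from (Iso.inv_comp_eq e).2 he.symm]
    rw [Scheme.IdealSheafData.support_comap] at hq
    exact hq
  · have := hc.preimage e.inv.continuous
    rwa [show e.inv ⁻¹' {e.inv q} = ({q} : Set _) from
      Set.ext fun z => ⟨fun h => e.inv.isOpenEmbedding.injective h, fun h => congrArg _ h⟩] at this

/-- The exceptional divisor is a projective line over the residue field, with conormal sheaf `O(1)`. -/
theorem exists_exc_iso (hA : ringKrullDim A = 2)
    (hb : BlowUp.IsBlowUp b (Curv2.idealSheaf A (maximalIdeal A))) :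
    ∃ e : CohB1.ProjSpace 1 (ResidueField A) ≅
        (BlowUp.exceptional b (Curv2.idealSheaf A (maximalIdeal A))).subscheme,
      e.hom ≫ (BlowUp.exceptional b (Curv2.idealSheaf A (maximalIdeal A))).subschemeι ≫ b =
        CohB1.ProjSpace.toSpec 1 (ResidueField A) ≫ Spec.map (CommRingCat.ofHom (IsLocalRing.residue A)) ∧
      Nonempty ((Scheme.Modules.pullback (e.hom ≫
        (BlowUp.exceptional b (Curv2.idealSheaf A (maximalIdeal A))).subschemeι)).obj
          (ClSub.idealMod (BlowUp.exceptional b (Curv2.idealSheaf A (maximalIdeal A)))) ≅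
        Twist.twistProjSpace 1 (ResidueField A) 1) := by
  obtain ⟨r, hr, hrb, ⟨i₁⟩⟩ := exists_line b hA hb
  obtain ⟨q, hq, hnc⟩ := exists_notClosed_exc b hA hb
  haveI := hr
  let I := BlowUp.exceptional b (Curv2.idealSheaf A (maximalIdeal A))
  let κ := ResidueField A
  let φ : A →+* κ := IsLocalRing.residue A
  let ιm : Spec (CommRingCat.of κ) ⟶ Spec (CommRingCat.of A) := Spec.map (CommRingCat.ofHom φ)
  haveI : IsClosedImmersion ιm := IsClosedImmersion.spec_of_surjective _ Ideal.Quotient.mk_surjective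
  have hker : ιm.ker = Curv2.idealSheaf A (maximalIdeal A) := (ExcSmooth.centre_eq_ker (maximalIdeal A)).symm
  have hle : ιm.ker ≤ (I.subschemeι ≫ b).ker := by
    rw [← Scheme.IdealSheafData.map_ker]
    exact Scheme.IdealSheafData.le_map_iff_comap_le.mpr (by
      rw [hker, Scheme.IdealSheafData.ker_subschemeι])
  let g := IsClosedImmersion.lift ιm (I.subschemeι ≫ b) hle
  have hg : g ≫ ιm = I.subschemeι ≫ b := IsClosedImmersion.lift_fac _ _ _
  have hpb := ProjX.isPullback_pmap 1 φ
  let rκ := hpb.lift (I.subschemeι ≫ r) g (by rw [Category.assoc, hrb]; exact hg.symm)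
  have hfac : rκ ≫ ProjX.pmap 1 φ = I.subschemeι ≫ r := hpb.lift_fst _ _ _
  haveI : IsClosedImmersion (ProjX.pmap 1 φ) :=
    MorphismProperty.of_isPullback (P := @IsClosedImmersion) hpb.flip ‹_›
  haveI : IsClosedImmersion (rκ ≫ ProjX.pmap 1 φ) := by rw [hfac]; infer_instance
  haveI : IsClosedImmersion rκ := IsClosedImmersion.of_comp rκ (ProjX.pmap 1 φ)
  haveI : IsIntegral (CohB1.ProjSpace 1 κ) := H23.PnChart.isIntegral_projSpace 1 κ
  obtain ⟨q', hq'⟩ : q ∈ Set.range I.subschemeι := by
    rw [Scheme.IdealSheafData.range_subschemeι]; exact hq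
  have hnc' : ¬ IsClosed ({rκ q'} : Set ↥(CohB1.ProjSpace 1 κ)) := fun h => by
    have h1 := h.preimage rκ.continuous
    rw [show rκ ⁻¹' {rκ q'} = ({q'} : Set _) from
      Set.ext fun z => ⟨fun h => rκ.isClosedEmbedding.injective h, fun h => congrArg _ h⟩] at h1
    have h2 := I.subschemeι.isClosedEmbedding.isClosedMap _ h1
    rw [Set.image_singleton, hq'] at h2
    exact hnc h2
  have hgen : rκ q' = genericPoint (CohB1.ProjSpace 1 κ) :=
    CurveCohLib.eq_genericPoint_of_not_isClosed (P1Split.dim_eq κ) hnc'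
  haveI : Surjective rκ := ⟨fun z => (show z ∈ Set.range rκ from
    ((genericPoint_spec (CohB1.ProjSpace 1 κ)).specializes (Set.mem_univ z)).mem_closed
      rκ.isClosedEmbedding.isClosed_range ⟨q', hgen⟩)⟩
  haveI : IsIso rκ := isIso_of_isClosedImmersion_of_surjective rκ
  obtain ⟨i₂⟩ := (PicGrp.cl_eq_cl_iff _ _).1 (PnPic.pullCl_pmap_twist 1 A φ 1)
  refine ⟨(asIso rκ).symm, ?_, ?_⟩
  · rw [Iso.symm_hom, asIso_inv, IsIso.inv_comp_eq]
    show I.subschemeι ≫ b = rκ ≫ CohB1.ProjSpace.toSpec 1 κ ≫ ιm
    rw [← hg, ← Category.assoc]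
    exact congrArg (· ≫ ιm) (hpb.lift_snd _ _ _).symm
  · exact nonempty_pull_trans _ r (ProjX.pmap 1 φ)
      (by rw [Iso.symm_hom, asIso_inv, Category.assoc, IsIso.inv_comp_eq, hfac]) i₁ i₂

/-- The exceptional divisor is an exceptional curve of the first kind. -/
theorem isExcCurve (hA : ringKrullDim A = 2)
    (hb : BlowUp.IsBlowUp b (Curv2.idealSheaf A (maximalIdeal A))) :
    Models.IsExcCurve (BlowUp.exceptional b (Curv2.idealSheaf A (maximalIdeal A))).subschemeι := by
  obtain ⟨e, -, he⟩ := exists_exc_iso b hA hb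
  have hker' : (BlowUp.exceptional b (Curv2.idealSheaf A (maximalIdeal A))).subschemeι.ker =
      BlowUp.exceptional b (Curv2.idealSheaf A (maximalIdeal A)) := Scheme.IdealSheafData.ker_subschemeι _
  refine ⟨by rw [hker']; exact hb.1, _, inferInstance, e, ?_⟩
  rw [hker']
  exact he

end Groth.Agent.PointBlowUp
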