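import Groth.Agent.PointBlowUp.Basic
import Groth.Agent.NefCurve.Euler
import Groth.Prelude.Def_CurvBase

/-! Any blowing up of a two-dimensional regular local ring in its maximal ideal. -/

noncomputable section

set_option linter.style.haveILetI false
set_option linter.unusedSectionVars false
set_option backward.isDefEq.respectTransparency false
set_option backward.isDefEq.respectTransparency.types false

universe u

open CategoryTheory CategoryTheory.Limits AlgebraicGeometry TopologicalSpace Opposite

namespace Groth.Agent.PointBlowUp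

open Groth.Agent Groth.Agent.BlowUpLib

theorem main (A : Type u) [CommRing A] [IsRegularLocalRing A] (hA : ringKrullDim A = 2)
    {X : Scheme.{u}} (b : X ⟶ Spec (CommRingCat.of A))
    (hb : BlowUp.IsBlowUp b (Curv2.idealSheaf A (IsLocalRing.maximalIdeal A))) :
    IsProper b ∧ IsIntegral X ∧
      (∃ U : (Spec (CommRingCat.of A)).Opens, (U : Set (Spec (CommRingCat.of A))).Nonempty ∧ IsIso (b ∣_ U)) ∧
      (∀ y : ↥(Spec (CommRingCat.of A)), IsClosed ({y} : Set ↥(Spec (CommRingCat.of A))) →
        topologicalKrullDim ↥(b ⁻¹' {y}) ≤ (1 : ℕ)) ∧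
      Subsingleton (Coh.HH X (Coh.structureModule X) 1) := by
  haveI := RegLoc6.isDomain_of_isRegularLocalRing A
  haveI := isIntegral A hA
  obtain ⟨e, he⟩ := exists_iso hb (isBlowUp_local (IsLocalRing.maximalIdeal A))
  haveI hp : IsProper b := by
    rw [← he]
    infer_instance
  haveI hi : IsIntegral X := H23.MaxAbelian.isIntegral_of_iso e
  obtain ⟨U, hU, hiso⟩ := exists_birational A hA
  have hbir : ∃ U : (Spec (CommRingCat.of A)).Opens, (U : Set (Spec (CommRingCat.of A))).Nonempty ∧ IsIso (b ∣_ U) := by
    refine ⟨U, hU, ?_⟩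
    rw [← he]
    haveI := hiso
    rw [morphismRestrict_comp]
    infer_instance
  refine ⟨hp, hi, hbir, fun y hy => ?_, ?_⟩
  · refine FibVanish.fibre_dim_le_one A hA.le b hbir y fun h => ?_
    obtain ⟨x, _, hx, -, hxy⟩ := exists_params A hA
    have hy' := IsLocalRing.eq_maximalIdeal ((PrimeSpectrum.isClosed_singleton_iff_isMaximal y).1 hy)
    rw [h] at hy'
    exact hx (hy'.ge (hxy ▸ Ideal.subset_span (Set.mem_insert _ _)))
  · obtain ⟨a⟩ := NefCurve.push_structure_of_isIso e.hom
    obtain ⟨E⟩ := QCoh.HH_push_of_isAffineHom e.hom (PnCoh.isQCoh_structureModule X) 1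
    haveI := QCoh.subsingleton_HH_of_iso a.symm 1 (h1_structure hA)
    exact E.toEquiv.subsingleton

end Groth.Agent.PointBlowUp
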