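import Groth.Agent.ArSurfInter.Components
import Groth.Agent.DimOne.Basic
import Groth.Agent.PointBlowUp.ExcPoint
import Groth.Agent.MdlInter.Exc
import Groth.Agent.GeomRedFlat5.Bridge
import Groth.Agent.IntThLib.DetLength
import Groth.Agent.H23.FiniteFibreSum

/-! A closed point of the closed fibre of an arithmetic surface has a two-dimensional local ring. -/

noncomputable section

set_option autoImplicit false
set_option linter.style.haveILetI false
set_option linter.unusedSectionVars false
set_option backward.isDefEq.respectTransparency false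
set_option backward.isDefEq.respectTransparency.types false
set_option maxHeartbeats 1000000

universe u

open CategoryTheory CategoryTheory.Limits AlgebraicGeometry TopologicalSpace Opposite

namespace Groth.Agent.PointBlowUp

open Groth.Agent

theorem ringKrullDim_stalk_arSurf {R : Type u} [CommRing R] [IsDomain R] [IsDiscreteValuationRing R]
    {Y : Over (Spec (CommRingCat.of R))} (hY : ArSurf.IsArithSurface R Y) (y : Y.left)
    (hy : IsClosed ({y} : Set Y.left)) (hys : Y.hom.base y = IsLocalRing.closedPoint R) :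
    ringKrullDim (Y.left.presheaf.stalk y) = 2 := by
  haveI := ArSurfInter.isLocallyNoetherian hY
  let F := Models.specialFibreSet R Y
  let K := Scheme.IdealSheafData.vanishingIdeal (⟨F, Models.isClosed_specialFibreSet R Y⟩ : Closeds Y.left)
  have hK : Set.range K.subschemeι = F := by
    rw [Scheme.IdealSheafData.range_subschemeι]
    simp [K]
  obtain ⟨y', hy'⟩ : y ∈ Set.range K.subschemeι := hK.ge hys
  obtain ⟨c, hc, hcy⟩ := DimOne.exists_isGen_specializes y'
  let ξ := K.subschemeι c
  have hξ : ξ ∈ F := hK.le ⟨c, rfl⟩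
  have hmax : ∀ z ∈ F, z ⤳ ξ → z = ξ := fun z hz hzξ => by
    obtain ⟨z', rfl⟩ := hK.ge hz
    exact congrArg _ (hc z' (K.subschemeι.isEmbedding.isInducing.specializes_iff.1 hzξ))
  have hnc := ArSurfInter.not_isClosed_of_max hY hξ hmax
  obtain ⟨G, hG⟩ := ArSurfInter.exists_vertComp hY hξ hmax
  have hgen : G.ι (genericPoint G.curve.left) = ξ := by
    have h := (genericPoint_spec G.curve.left).image G.ι.continuous
    rw [Set.image_univ, closure_eq_iff_isClosed.2 G.ι.isClosedEmbedding.isClosed_range, hG] at h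
    exact h.eq (isGenericPoint_closure)
  have hξy : ξ ⤳ y := hy' ▸ hcy.map K.subschemeι.continuous
  have hne : ξ ≠ y := fun h => hnc (h ▸ hy)
  have h1 := ArSurfInter.ringKrullDim_stalk_gen hY G
  rw [hgen, DimFormula.ringKrullDim_stalk] at h1
  have h1' : DimFormula.codim ξ = 1 := by exact_mod_cast h1
  have h2 := DimFormula.codim_mono_add hξy
  have h3 : DimFormula.cd ξ y ≠ 0 := fun h0 => hne ((DimFormula.cd_eq_zero_iff hξy).1 h0)
  have h5 : ((DimFormula.codim y : ℕ∞) : WithBot ℕ∞) ≤ 2 := by
    rw [← hY.2.2.1, FibDim.topologicalKrullDim_eq_iSup_codim]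
    exact le_iSup (fun x : Y.left => ((DimFormula.codim x : ℕ∞) : WithBot ℕ∞)) y
  have h6 : DimFormula.codim y ≤ 2 :=
    Nat.cast_le.1 (WithBot.coe_le_coe.1 h5 : (DimFormula.codim y : ℕ∞) ≤ ((2 : ℕ) : ℕ∞))
  rw [DimFormula.ringKrullDim_stalk, show DimFormula.codim y = 2 by omega]
  rfl

/-- The numerical invariants of the exceptional curve over a closed point of an arithmetic surface. -/
theorem exc_arSurf {R : Type u} [CommRing R] [IsDomain R] [IsDiscreteValuationRing R]
    {Y : Over (Spec (CommRingCat.of R))} (hY : ArSurf.IsArithSurface R Y)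
    (y : Y.left) (hy : IsClosed ({y} : Set Y.left)) (hys : Y.hom.base y = IsLocalRing.closedPoint R)
    {X : Scheme.{u}} (f : X ⟶ Y.left)
    (hf : BlowUp.IsBlowUp f (Scheme.IdealSheafData.vanishingIdeal ⟨{y}, hy⟩))
    (E : ArSurf.VertComp R (Over.mk (f ≫ Y.hom)))
    (hE : Set.range (E.ι.base : E.curve.left → X) = f.base ⁻¹' {y}) :
    IsProper f ∧ Models.IsExcCurve E.ι ∧
      ∃ e : CohB1.ProjSpace 1 (Y.left.residueField y) ≅ E.curve.left,
        e.hom ≫ E.ι ≫ f = CohB1.ProjSpace.toSpec 1 (Y.left.residueField y) ≫ Y.left.fromSpecResidueField y ∧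
        (letI : Algebra R (Y.left.residueField y) :=
            ((Y.left.residue y).hom.comp (Models.stalkHom R Y y)).toAlgebra;
          Module.length R (Y.left.residueField y) = (Models.wdeg R (Over.mk (f ≫ Y.hom)) E : ℕ∞)) := by
  haveI := ArSurfInter.isLocallyNoetherian hY
  haveI := ArSurfInter.isProper_hom hY
  haveI := hY.1 y
  haveI hpf : IsProper f := BlowUpLib.isProper_of_isBlowUp _ hf fun U => by
    haveI : IsNoetherianRing Γ(Y.left, U.1) := IsLocallyNoetherian.component_noetherian U
    exact IsNoetherian.noetherian _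
  have hdim := ringKrullDim_stalk_arSurf hY y hy hys
  haveI := E.isClosedImmersion
  haveI := E.isIntegral
  obtain ⟨hker, e, he, hw⟩ := exc_of_range_eq f y hy hdim hf E.ι hE
  refine ⟨hpf, ⟨by rw [hker]; exact hf.1, _, inferInstance, e, hw⟩, e, he, ?_⟩
  let k := IsLocalRing.ResidueField R
  let κ := Y.left.residueField y
  let ψ : R →+* κ := (Y.left.residue y).hom.comp (Models.stalkHom R Y y)
  have hψm : ∀ r ∈ IsLocalRing.maximalIdeal R, ψ r = 0 := fun r hr => by
    haveI : IsLocalHom (Models.stalkHom R Y y) := ⟨fun a ha => by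
      by_contra hna
      have h1 : Y.left.presheaf.germ ⊤ y trivial (Coh.toGlobal Y.hom a) = Models.stalkHom R Y y a := rfl
      have h2 : y ∈ Y.left.basicOpen (Coh.toGlobal Y.hom a) := (Y.left.mem_basicOpen (U := ⊤) (Coh.toGlobal Y.hom a) y trivial).2 (h1 ▸ ha)
      have h3 : y ∈ Y.hom ⁻¹ᵁ (Spec (CommRingCat.of R)).basicOpen ((Scheme.ΓSpecIso (CommRingCat.of R)).inv a) := by
        rw [Scheme.preimage_basicOpen_top]
        exact h2
      rw [Scheme.Hom.mem_preimage, hys, basicOpen_eq_of_affine] at h3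
      exact h3 ((IsLocalRing.mem_maximalIdeal a).2 hna)⟩
    exact (IsLocalRing.residue_eq_zero_iff _).2 (map_nonunit (Models.stalkHom R Y y) r hr)
  let φ : k →+* κ := Ideal.Quotient.lift _ ψ hψm
  letI : E.curve.left.Over (Spec (CommRingCat.of κ)) := ⟨e.inv ≫ CohB1.ProjSpace.toSpec 1 κ⟩
  have hef : e.hom ≫ (E.curve.left ↘ Spec (CommRingCat.of κ)) = CohB1.ProjSpace.toSpec 1 κ := e.hom_inv_id_assoc _
  haveI : IsClosedImmersion (Spec.map (CommRingCat.ofHom (IsLocalRing.residue R))) :=
    IsClosedImmersion.spec_of_surjective _ Ideal.Quotient.mk_surjective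
  have hψ : Y.left.fromSpecResidueField y ≫ Y.hom = Spec.map (CommRingCat.ofHom ψ) := by
    rw [Scheme.fromSpecResidueField, Category.assoc, GeomRedFlat5.fromSpecStalk_comp_eq, ← Spec.map_comp]
    congr 1
  have hφ : (E.curve.left ↘ Spec (CommRingCat.of k)) =
      (E.curve.left ↘ Spec (CommRingCat.of κ)) ≫ Spec.map (CommRingCat.ofHom φ) := by
    rw [← cancel_mono (Spec.map (CommRingCat.ofHom (IsLocalRing.residue R))), Category.assoc, ← Spec.map_comp,
      ← CommRingCat.ofHom_comp]
    show E.curve.hom ≫ _ = (e.inv ≫ CohB1.ProjSpace.toSpec 1 κ) ≫ Spec.map (CommRingCat.ofHom ψ)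
    rw [← E.w, ← hψ, Category.assoc, ← reassoc_of% he, e.inv_hom_id_assoc]
    rfl
  haveI : IsProper (CohB1.ProjSpace.toSpec 1 κ) := PnCoh.Chow.isProper_toSpec 1 κ
  haveI : IsProper (E.curve.left ↘ Spec (CommRingCat.of κ)) :=
    inferInstanceAs (IsProper (e.inv ≫ CohB1.ProjSpace.toSpec 1 κ))
  obtain ⟨a0, -, -⟩ := MdlInter.line_structure κ e hef
  have hwd : Models.wdeg R (Over.mk (f ≫ Y.hom)) E = MdlInter.extDeg φ := by
    show Module.finrank k (Coh.HH E.curve.left (Coh.structureModule E.curve.left) 0) = _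
    rw [MdlInter.finrank_HH_change φ hφ, a0, mul_one]
  haveI : IsProper (Over.mk (f ≫ Y.hom)).hom := inferInstanceAs (IsProper (f ≫ Y.hom))
  have hpos := MdlInter.wdeg_pos (p := f ≫ Y.hom) E
  letI : Algebra R κ := ψ.toAlgebra
  letI : Algebra k κ := φ.toAlgebra
  haveI : Module.Finite k κ := Module.finite_of_finrank_pos (R := k) (M := κ) (by
    show 0 < MdlInter.extDeg φ
    rw [← hwd]
    exact hpos)
  show Module.length R κ = _
  rw [IntThLib.length_eq_of_surjective_map (IsLocalRing.residue R) Ideal.Quotient.mk_surjective κ (fun r m => rfl),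
    H23.FiniteFibreSum.length_eq_finrank k κ, hwd]
  rfl

end Groth.Agent.PointBlowUp
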