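import Groth.Agent.TwoOpen.Laurent
import Groth.Agent.BlowUpLib.Glue
import Groth.Agent.BlowUpLib.Local
import Groth.Agent.BlowUpX.Basic
import Groth.Agent.DimOne.Basic
import Groth.Agent.FibVanish.QCoh
import Groth.Agent.FibVanish.Birational
import Groth.Agent.RegLoc6.Basic
import Groth.Agent.S1681
import Groth.Agent.S8851

/-! The blowing up of a two-dimensional regular local ring in its maximal ideal. -/

noncomputable section

set_option linter.style.haveILetI false
set_option linter.unusedSectionVars false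
set_option backward.isDefEq.respectTransparency false
set_option backward.isDefEq.respectTransparency.types false

universe u

open CategoryTheory CategoryTheory.Limits AlgebraicGeometry TopologicalSpace Opposite

namespace Groth.Agent.PointBlowUp

open Groth.Agent Groth.Agent.BlowUpLib

variable (A : Type u) [CommRing A] [IsRegularLocalRing A]

theorem exists_params (hA : ringKrullDim A = 2) :
    ∃ x y : A, x ≠ 0 ∧ y ≠ 0 ∧ Ideal.span {x, y} = IsLocalRing.maximalIdeal A := by
  have h2 : (IsLocalRing.maximalIdeal A).spanFinrank = 2 := by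
    have h := IsRegularLocalRing.spanFinrank_maximalIdeal (R := A)
    rw [hA] at h
    exact_mod_cast h
  have hfg : (IsLocalRing.maximalIdeal A).FG := IsNoetherian.noetherian _
  obtain ⟨s, hs, hspan⟩ : ∃ s : Set A, s.ncard = (IsLocalRing.maximalIdeal A).spanFinrank ∧
      Submodule.span A s = IsLocalRing.maximalIdeal A :=
    ⟨_, Submodule.FG.generators_ncard hfg, Submodule.span_generators _⟩
  rw [h2] at hs
  obtain ⟨x, y, hxy, rfl⟩ := Set.ncard_eq_two.1 hs
  have key : ∀ a b : A, Ideal.span {a, b} = IsLocalRing.maximalIdeal A → a ≠ 0 := fun a b h ha => by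
    have h1 : IsLocalRing.maximalIdeal A = Ideal.span {b} := by rw [← h, ha, Ideal.span_insert_zero]
    have h3 := Submodule.spanFinrank_span_le_ncard_of_finite (R := A) (M := A) (Set.finite_singleton b)
    rw [Set.ncard_singleton, show Submodule.span A {b} = IsLocalRing.maximalIdeal A from h1.symm, h2] at h3
    omega
  exact ⟨x, y, key x y hspan, key y x (by rw [Set.pair_comm]; exact hspan), hspan⟩

/-- The blow-up. -/
abbrev Z : Scheme.{u} := localBlowUp (IsLocalRing.maximalIdeal A)

/-- Its morphism to the base. -/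
abbrev toA : Z A ⟶ Spec (CommRingCat.of A) := toBase (IsLocalRing.maximalIdeal A)

instance : IsProper (toA A) := isProper_toBase _ (IsNoetherian.noetherian _)

instance : (Z A).Over (Spec (CommRingCat.of A)) := ⟨toA A⟩

instance : IsProper (Z A ↘ Spec (CommRingCat.of A)) := inferInstanceAs (IsProper (toA A))

theorem exists_birational (hA : ringKrullDim A = 2) :
    ∃ U : (Spec (CommRingCat.of A)).Opens, (U : Set (Spec (CommRingCat.of A))).Nonempty ∧ IsIso (toA A ∣_ U) := by
  haveI := RegLoc6.isDomain_of_isRegularLocalRing A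
  refine ⟨_, ?_, BlowUpX.isIso_restrict (isBlowUp_local (IsLocalRing.maximalIdeal A))⟩
  refine ⟨(⟨⊥, Ideal.isPrime_bot⟩ : PrimeSpectrum A), fun h => ?_⟩
  obtain ⟨x, y, hx, -, hxy⟩ := exists_params A hA
  have hxm : x ∈ IsLocalRing.maximalIdeal A := hxy ▸ Ideal.subset_span (Set.mem_insert _ _)
  have h' : (IsLocalRing.maximalIdeal A : Set A) ⊆ ((⊥ : Ideal A) : Set A) := by
    have := h
    rw [Scheme.IdealSheafData.coe_support_ofIdealTop, Spec_zeroLocus] at this
    intro a ha
    exact this (Ideal.mem_map_of_mem _ ha)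
  exact hx (h' hxm)

theorem isIntegral (hA : ringKrullDim A = 2) : IsIntegral (Z A) := by
  haveI := RegLoc6.isDomain_of_isRegularLocalRing A
  have hb := isBlowUp_local (IsLocalRing.maximalIdeal A)
  haveI : IsReduced (Z A) := S8851.result _ (toA A) hb
  have hbij := S1681.result _ (toA A) hb
  have huniq : ∀ c c' : Z A, DimOne.IsGen c → DimOne.IsGen c' → c = c' := fun c c' hc hc' => by
    refine hbij.injOn hc hc' ?_
    have key : ∀ z, DimOne.IsGen z → toA A z = genericPoint (Spec (CommRingCat.of A)) := fun z hz =>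
      ((hbij.mapsTo hz).1 _ (genericPoint_specializes _)).symm
    exact (key c hc).trans (key c' hc').symm
  obtain ⟨U, hU, hiso⟩ := exists_birational A hA
  haveI := hiso
  haveI : Nonempty (Z A) := by
    obtain ⟨p, hp⟩ := hU
    obtain ⟨z, -⟩ := (toA A ∣_ U).surjective ⟨p, hp⟩
    exact ⟨z.1⟩
  obtain ⟨η, hη, -⟩ := DimOne.exists_isGen_specializes (Classical.arbitrary (Z A))
  have hall : closure ({η} : Set (Z A)) = Set.univ := Set.eq_univ_of_forall fun z => by
    obtain ⟨c, hc, hcz⟩ := DimOne.exists_isGen_specializes z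
    rw [huniq η c hη hc]
    exact hcz.mem_closure
  haveI : IrreducibleSpace (Z A) :=
    { toPreirreducibleSpace := ⟨by rw [← hall]; exact isIrreducible_singleton.closure.isPreirreducible⟩
      toNonempty := inferInstance }
  exact isIntegral_of_irreducibleSpace_of_isReduced _

variable {A}

/-- The ring isomorphism of a chart. -/
def chartHom (a : IsLocalRing.maximalIdeal A) :
    Γ(Z A, (chart (IsLocalRing.maximalIdeal A) a).opensRange) →+*
      BlowUp.affineAlgebra A (IsLocalRing.maximalIdeal A) (a : A) :=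
  ((chart _ a).appLE (chart _ a).opensRange ⊤ (fun z _ => ⟨z, rfl⟩) ≫
    (Scheme.ΓSpecIso (CommRingCat.of (BlowUp.affineAlgebra A (IsLocalRing.maximalIdeal A) (a : A)))).hom).hom

theorem chartHom_bijective (a : IsLocalRing.maximalIdeal A) : Function.Bijective (chartHom a) := by
  have hle : (⊤ : (Spec (CommRingCat.of (BlowUp.affineAlgebra A (IsLocalRing.maximalIdeal A) (a : A)))).Opens) =
      (chart _ a) ⁻¹ᵁ (chart _ a).opensRange := (top_le_iff.1 fun z _ => ⟨z, rfl⟩).symm
  haveI : IsIso ((chart (IsLocalRing.maximalIdeal A) a).app (chart _ a).opensRange) :=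
    (chart _ a).isIso_app _ le_rfl
  haveI : IsIso ((chart (IsLocalRing.maximalIdeal A) a).appLE (chart _ a).opensRange ⊤ (fun z _ => ⟨z, rfl⟩)) := by
    rw [Scheme.Hom.appLE]
    haveI : IsIso (homOfLE hle.le) := ⟨homOfLE hle.ge, Subsingleton.elim _ _, Subsingleton.elim _ _⟩
    infer_instance
  exact ConcreteCategory.bijective_of_isIso
    ((chart (IsLocalRing.maximalIdeal A) a).appLE (chart _ a).opensRange ⊤ (fun z _ => ⟨z, rfl⟩) ≫
      (Scheme.ΓSpecIso (CommRingCat.of (BlowUp.affineAlgebra A (IsLocalRing.maximalIdeal A) (a : A)))).hom)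

variable (A) in
/-- The scalars. -/
def scal : A →+* Γ(Z A, ⊤) := ((Scheme.ΓSpecIso (CommRingCat.of A)).inv ≫ (toA A).appTop).hom

theorem chartHom_scal (a : IsLocalRing.maximalIdeal A) (r : A) :
    chartHom a ((Z A).presheaf.map (homOfLE le_top).op (scal A r)) =
      algebraMap A (BlowUp.affineAlgebra A (IsLocalRing.maximalIdeal A) (a : A)) r := by
  show ((Scheme.ΓSpecIso (CommRingCat.of A)).inv ≫ (toA A).appTop ≫ (Z A).presheaf.map (homOfLE le_top).op ≫
    (chart _ a).appLE (chart _ a).opensRange ⊤ (fun z _ => ⟨z, rfl⟩) ≫ (Scheme.ΓSpecIso _).hom) r = _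
  rw [Scheme.Hom.map_appLE_assoc, show (chart (IsLocalRing.maximalIdeal A) a).appLE ⊤ ⊤ le_top =
    (chart (IsLocalRing.maximalIdeal A) a).appTop from (Scheme.Hom.app_eq_appLE _).symm]
  rw [← Scheme.Hom.comp_appTop_assoc]
  rw [chart_toBase, Scheme.ΓSpecIso_naturality, Iso.inv_hom_id_assoc]
  rfl

/-- The fraction `b / a` as a section over the chart of `a`. -/
def fracSec (a b : IsLocalRing.maximalIdeal A) : Γ(Z A, (chart (IsLocalRing.maximalIdeal A) a).opensRange) :=
  ((chartHom_bijective a).2 ⟨IsLocalization.mk' (Localization.Away (a : A)) (b : A) ⟨(a : A), Submonoid.mem_powers _⟩,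
    Algebra.subset_adjoin ⟨b, b.2, rfl⟩⟩).choose

theorem chartHom_fracSec (a b : IsLocalRing.maximalIdeal A) :
    chartHom a (fracSec a b) = ⟨IsLocalization.mk' (Localization.Away (a : A)) (b : A) ⟨(a : A), Submonoid.mem_powers _⟩,
      Algebra.subset_adjoin ⟨b, b.2, rfl⟩⟩ :=
  ((chartHom_bijective a).2 _).choose_spec

theorem scal_mul_fracSec (a b : IsLocalRing.maximalIdeal A) :
    (Z A).presheaf.map (homOfLE le_top).op (scal A a) * fracSec a b =
      (Z A).presheaf.map (homOfLE le_top).op (scal A b) := by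
  apply (chartHom_bijective a).1
  rw [map_mul, chartHom_scal, chartHom_scal, chartHom_fracSec]
  refine Subtype.ext ?_
  exact IsLocalization.mk'_spec' (Localization.Away (a : A)) (b : A) ⟨(a : A), Submonoid.mem_powers _⟩

theorem chartHom_generated (a b : IsLocalRing.maximalIdeal A)
    (hab : Ideal.span {(a : A), (b : A)} = IsLocalRing.maximalIdeal A) :
    Subring.closure (Set.range (((Z A).presheaf.map (homOfLE (le_top : (chart (IsLocalRing.maximalIdeal A) a).opensRange ≤ ⊤)).op).hom.comp
      (scal A)) ∪ {fracSec a b}) = ⊤ := by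
  let S := Subring.closure (Set.range (((Z A).presheaf.map (homOfLE (le_top : (chart (IsLocalRing.maximalIdeal A) a).opensRange ≤ ⊤)).op).hom.comp
      (scal A)) ∪ {fracSec a b})
  let T : Subalgebra A (BlowUp.affineAlgebra A (IsLocalRing.maximalIdeal A) (a : A)) :=
    { (S.map (chartHom a)) with
      algebraMap_mem' := fun r => ⟨_, Subring.subset_closure (Or.inl ⟨r, rfl⟩), chartHom_scal a r⟩ }
  have hT : ∀ z, z ∈ T := by
    rintro ⟨q, hq⟩
    suffices ∀ (q) (hq : q ∈ BlowUp.affineAlgebra A (IsLocalRing.maximalIdeal A) (a : A)), (⟨q, hq⟩ : BlowUp.affineAlgebra A (IsLocalRing.maximalIdeal A) (a : A)) ∈ T from this q hq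
    intro q hq
    induction hq using Algebra.adjoin_induction with
    | algebraMap r => exact T.algebraMap_mem r
    | add p q hp hq hp' hq' => exact T.add_mem hp' hq'
    | mul p q hp hq hp' hq' => exact T.mul_mem hp' hq'
    | mem p hp =>
      obtain ⟨c, hc, rfl⟩ := hp
      rw [← hab, Ideal.mem_span_pair] at hc
      obtain ⟨r, s, rfl⟩ := hc
      have he : chartHom a (fracSec a b) ∈ T := ⟨_, Subring.subset_closure (Or.inr rfl), rfl⟩
      have := T.add_mem (T.algebraMap_mem r) (T.mul_mem (T.algebraMap_mem s) he)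
      convert this using 1
      refine Subtype.ext ?_
      rw [chartHom_fracSec]
      show IsLocalization.mk' (Localization.Away (a : A)) (r * (a : A) + s * (b : A)) _ =
        algebraMap A (Localization.Away (a : A)) r + algebraMap A (Localization.Away (a : A)) s *
          IsLocalization.mk' (Localization.Away (a : A)) (b : A) ⟨(a : A), Submonoid.mem_powers _⟩
      rw [IsLocalization.mk'_eq_iff_eq_mul, map_add, map_mul, map_mul, add_mul, mul_assoc,
        IsLocalization.mk'_spec (Localization.Away (a : A)) (b : A) ⟨(a : A), Submonoid.mem_powers _⟩]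
  refine top_le_iff.1 fun z _ => ?_
  obtain ⟨w, hw, hwz⟩ := hT (chartHom a z)
  exact (chartHom_bijective a).1 hwz ▸ hw

theorem chart_covers_two (a b : IsLocalRing.maximalIdeal A)
    (hab : Ideal.span {(a : A), (b : A)} = IsLocalRing.maximalIdeal A) :
    (chart (IsLocalRing.maximalIdeal A) a).opensRange ⊔ (chart (IsLocalRing.maximalIdeal A) b).opensRange = ⊤ := by
  refine top_le_iff.1 fun z _ => ?_
  obtain ⟨c, hc⟩ := chart_covers (IsLocalRing.maximalIdeal A) z
  have hmem : (c : A) ∈ Ideal.span {(a : A), (b : A)} := by rw [hab]; exact c.2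
  obtain ⟨r, s, hrs⟩ := Ideal.mem_span_pair.1 hmem
  rw [opensRange_chart, opensRange_chart]
  rw [opensRange_chart] at hc
  by_contra hz
  rw [Opens.mem_sup, not_or] at hz
  have hgen : gen (IsLocalRing.maximalIdeal A) c =
      algebraMap A _ r * gen (IsLocalRing.maximalIdeal A) a + algebraMap A _ s * gen (IsLocalRing.maximalIdeal A) b := by
    refine Subtype.ext ?_
    simp [gen, ← hrs, Polynomial.C_mul_monomial]
  refine hc ?_
  rw [hgen]
  exact add_mem (Ideal.mul_mem_left _ _ (not_not.1 hz.1)) (Ideal.mul_mem_left _ _ (not_not.1 hz.2))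

theorem h1_structure (hA : ringKrullDim A = 2) : Subsingleton (Coh.HH (Z A) (Coh.structureModule (Z A)) 1) := by
  haveI := RegLoc6.isDomain_of_isRegularLocalRing A
  haveI := isIntegral A hA
  haveI := FibVanish.isNoetherian_of_proper A (X := Z A)
  haveI : (Z A).IsSeparated := ⟨by rw [← terminal.comp_from (toA A)]; infer_instance⟩
  obtain ⟨x, y, hx, hy, hxy⟩ := exists_params A hA
  let a : IsLocalRing.maximalIdeal A := ⟨x, hxy ▸ Ideal.subset_span (Set.mem_insert _ _)⟩
  let b : IsLocalRing.maximalIdeal A := ⟨y, hxy ▸ Ideal.subset_span (Set.mem_insert_of_mem _ rfl)⟩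
  let U := (chart (IsLocalRing.maximalIdeal A) a).opensRange
  let V := (chart (IsLocalRing.maximalIdeal A) b).opensRange
  have hne : ∀ c : IsLocalRing.maximalIdeal A, (c : A) ≠ 0 →
      ((chart (IsLocalRing.maximalIdeal A) c).opensRange : Set (Z A)).Nonempty := fun c hc => by
    haveI : Nontrivial (Localization.Away (c : A)) :=
      (IsLocalization.injective (Localization.Away (c : A)) (powers_le_nonZeroDivisors_of_noZeroDivisors hc)).nontrivial
    obtain ⟨p⟩ : Nonempty (PrimeSpectrum (BlowUp.affineAlgebra A (IsLocalRing.maximalIdeal A) (c : A))) := inferInstance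
    exact ⟨_, p, rfl⟩
  have hUV : ((U ⊓ V : (Z A).Opens) : Set (Z A)).Nonempty :=
    nonempty_preirreducible_inter U.2 V.2 (hne a hx) (hne b hy)
  haveI : Nonempty (U ⊓ V : (Z A).Opens).toScheme := ⟨⟨hUV.choose, hUV.choose_spec⟩⟩
  let rU : Γ(Z A, U) →+* Γ(Z A, U ⊓ V) := ((Z A).presheaf.map (homOfLE (inf_le_left : U ⊓ V ≤ U)).op).hom
  let rV : Γ(Z A, V) →+* Γ(Z A, U ⊓ V) := ((Z A).presheaf.map (homOfLE (inf_le_right : U ⊓ V ≤ V)).op).hom
  let sc : A →+* Γ(Z A, U ⊓ V) := ((Z A).presheaf.map (homOfLE le_top).op).hom.comp (scal A)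
  have hU' : ∀ r, rU ((Z A).presheaf.map (homOfLE le_top).op (scal A r)) = sc r := fun r => by
    simp only [rU, sc, RingHom.comp_apply, ← CommRingCat.comp_apply, ← Functor.map_comp, ← op_comp]
    rfl
  have hV' : ∀ r, rV ((Z A).presheaf.map (homOfLE le_top).op (scal A r)) = sc r := fun r => by
    simp only [rV, sc, RingHom.comp_apply, ← CommRingCat.comp_apply, ← Functor.map_comp, ← op_comp]
    rfl
  have h1 : sc x * rU (fracSec a b) = sc y := by
    rw [← hU', ← hU', ← map_mul, scal_mul_fracSec a b]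
  have h2 : sc y * rV (fracSec b a) = sc x := by
    rw [← hV', ← hV', ← map_mul, scal_mul_fracSec b a]
  have hsc : sc x ≠ 0 := by
    rw [← hU']
    intro h
    haveI : Nonempty U := ⟨⟨hUV.choose, hUV.choose_spec.1⟩⟩
    have h' := (chartHom a).congr_arg (map_injective_of_isIntegral (Z A) (homOfLE (inf_le_left : U ⊓ V ≤ U))
      (h.trans (map_zero _).symm))
    rw [chartHom_scal, map_zero] at h'
    refine hx (IsLocalization.injective (Localization.Away (a : A))
      (powers_le_nonZeroDivisors_of_noZeroDivisors hx) ?_)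
    rw [map_zero]
    exact congrArg Subtype.val h'
  have hfg : rU (fracSec a b) * rV (fracSec b a) = 1 := by
    refine mul_left_cancel₀ hsc ?_
    rw [← mul_assoc, h1, h2, mul_one]
  have hov : U ⊓ V = (Z A).basicOpen (fracSec a b) := by
    refine le_antisymm ?_ fun p hp => ⟨(Z A).basicOpen_le _ hp, ?_⟩
    · have h : (Z A).basicOpen (rU (fracSec a b)) = U ⊓ V :=
        (Z A).basicOpen_of_isUnit (IsUnit.of_mul_eq_one _ hfg)
      rw [← h]
      exact ((Z A).basicOpen_res (fracSec a b) (homOfLE (inf_le_left : U ⊓ V ≤ U)).op).le.trans inf_le_right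
    · obtain ⟨q, hq⟩ : p ∈ U := (Z A).basicOpen_le _ hp
      subst hq
      refine chart_overlap (IsLocalRing.maximalIdeal A) b a (x := q) ?_
      have h3 : q ∈ (chart (IsLocalRing.maximalIdeal A) a) ⁻¹ᵁ (Z A).basicOpen (fracSec a b) := hp
      rw [Scheme.preimage_basicOpen, ← Scheme.basicOpen_res_eq _ _ (eqToHom (show (⊤ : (Spec (CommRingCat.of (BlowUp.affineAlgebra A (IsLocalRing.maximalIdeal A) (a : A)))).Opens) = (chart _ a) ⁻¹ᵁ U from
        (top_le_iff.1 fun z _ => ⟨z, rfl⟩).symm)).op, basicOpen_eq_of_affine'] at h3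
      have h4 := chartHom_fracSec a b
      show ((⟨_, _⟩ : BlowUp.affineAlgebra A (IsLocalRing.maximalIdeal A) (a : A))) ∉ q.asIdeal
      rw [← h4]
      exact h3
  refine TwoOpen.subsingleton_h1 A (U := U) (V := V) (isAffineOpen_opensRange _) (isAffineOpen_opensRange _)
    (chart_covers_two a b hxy) QCoh.isCoh_structureModule'.1 ?_ ?_
  · intro W s t hst
    by_cases hW : Nonempty W
    · haveI : Nonempty (U ⊓ W : (Z A).Opens).toScheme := by
        obtain ⟨z, hz⟩ := nonempty_preirreducible_inter U.2 W.2 (hne a hx) ⟨_, (Classical.arbitrary W).2⟩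
        exact ⟨⟨z, hz⟩⟩
      exact map_injective_of_isIntegral (Z A) (homOfLE (inf_le_right : U ⊓ W ≤ W)) hst
    · have : W = ⊥ := Opens.ext (Set.eq_empty_of_forall_notMem fun z hz => hW ⟨⟨z, hz⟩⟩)
      subst this
      exact Subsingleton.elim (α := Γ(Z A, ⊥)) s t
  · exact fun w => TwoOpen.exists_split (scal A) (isAffineOpen_opensRange _) (fracSec a b) (fracSec b a) hov hfg
      (chartHom_generated a b hxy) w

theorem fibre_le (hA : ringKrullDim A = 2) (y : ↥(Spec (CommRingCat.of A))) (hy : IsClosed ({y} : Set ↥(Spec (CommRingCat.of A)))) :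
    topologicalKrullDim ↥((Z A ↘ Spec (CommRingCat.of A)) ⁻¹' {y}) ≤ (1 : ℕ) := by
  haveI := RegLoc6.isDomain_of_isRegularLocalRing A
  haveI := isIntegral A hA
  refine FibVanish.fibre_dim_le_one A hA.le (toA A) (exists_birational A hA) y fun h => ?_
  obtain ⟨x, _, hx, -, hxy⟩ := exists_params A hA
  have hy' := IsLocalRing.eq_maximalIdeal ((PrimeSpectrum.isClosed_singleton_iff_isMaximal y).1 hy)
  rw [h] at hy'
  exact hx (hy'.ge (hxy ▸ Ideal.subset_span (Set.mem_insert _ _)))

end Groth.Agent.PointBlowUp
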