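import Groth.Agent.PointBlowUp.Transfer
import Groth.Agent.RegLoc6.Serre
import Groth.Agent.S0615
import Mathlib.RingTheory.Polynomial.Quotient
import Mathlib.RingTheory.Regular.RegularSequence

/-! Regularity of the blowing up of a two-dimensional regular local ring in its maximal ideal. -/

noncomputable section

set_option linter.style.haveILetI false
set_option linter.unusedSectionVars false
set_option backward.isDefEq.respectTransparency false
set_option backward.isDefEq.respectTransparency.types false

universe u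

open CategoryTheory CategoryTheory.Limits AlgebraicGeometry TopologicalSpace Opposite IsLocalRing

namespace Groth.Agent.PointBlowUp

open Groth.Agent Groth.Agent.BlowUpLib

variable {A : Type u} [CommRing A] [IsRegularLocalRing A]

theorem regular_pair (hA : ringKrullDim A = 2) {x y : A} (hx : x ≠ 0)
    (hxy : Ideal.span {x, y} = maximalIdeal A) :
    RingTheory.Sequence.IsWeaklyRegular A (List.ofFn ![x, y]) := by
  haveI := RegLoc6.isDomain_of_isRegularLocalRing A
  have h2 : (maximalIdeal A).spanFinrank = 2 := by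
    have h := IsRegularLocalRing.spanFinrank_maximalIdeal (R := A)
    rw [hA] at h
    exact_mod_cast h
  have hone : ∀ z : A, maximalIdeal A ≤ Ideal.span {z} → z ∈ maximalIdeal A → False := fun z hle hz => by
    have he : Ideal.span {z} = maximalIdeal A := le_antisymm ((Ideal.span_singleton_le_iff_mem _).2 hz) hle
    have h3 := Submodule.spanFinrank_span_le_ncard_of_finite (R := A) (M := A) (Set.finite_singleton z)
    rw [Set.ncard_singleton, show Submodule.span A {z} = maximalIdeal A from he, h2] at h3
    omega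
  have hxm : x ∈ maximalIdeal A := hxy ▸ Ideal.subset_span (Set.mem_insert _ _)
  have hym : y ∈ maximalIdeal A := hxy ▸ Ideal.subset_span (Set.mem_insert_of_mem _ rfl)
  have hx2 : x ∉ maximalIdeal A ^ 2 := fun h => by
    refine hone y (Submodule.le_of_le_smul_of_le_jacobson_bot (I := maximalIdeal A) (IsNoetherian.noetherian _)
      (maximalIdeal_le_jacobson _) ?_) hym
    conv_lhs => rw [← hxy]
    rw [Ideal.span_le]
    rintro z (rfl | rfl)
    · rw [pow_two] at h
      exact Submodule.mem_sup_right h
    · exact Submodule.mem_sup_left (Ideal.subset_span rfl)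
  haveI := (RegLoc6.isRegularLocalRing_quot_and hxm hx2).1
  haveI := RegLoc6.isDomain_of_isRegularLocalRing (A ⧸ Ideal.span {x})
  have hp : (Ideal.span {x}).IsPrime := (Ideal.Quotient.isDomain_iff_prime _).1 inferInstance
  have hy : y ∉ Ideal.span {x} := fun h => hone x (by
    rw [← hxy, Ideal.span_le]
    rintro z (rfl | rfl)
    · exact Ideal.subset_span rfl
    · exact h) hxm
  rw [show List.ofFn ![x, y] = [x, y] by simp [List.ofFn_succ]]
  refine (RingTheory.Sequence.isWeaklyRegular_cons_iff A x [y]).2
    ⟨isSMulRegular_iff_right_eq_zero_of_smul.mpr fun z hz => (mul_eq_zero.1 hz).resolve_left hx, ?_⟩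
  refine (RingTheory.Sequence.isWeaklyRegular_cons_iff _ y []).2 ⟨?_, RingTheory.Sequence.IsWeaklyRegular.nil _ _⟩
  refine isSMulRegular_iff_right_eq_zero_of_smul.mpr fun z hz => ?_
  obtain ⟨z, rfl⟩ := Submodule.Quotient.mk_surjective _ z
  rw [← Submodule.Quotient.mk_smul, Submodule.Quotient.mk_eq_zero] at hz
  rw [Submodule.Quotient.mk_eq_zero]
  obtain ⟨w, -, hw⟩ := (Submodule.mem_smul_pointwise_iff_exists _ _ _).1 hz
  have : y * z ∈ Ideal.span {x} := Ideal.mem_span_singleton'.2 ⟨w, by rw [mul_comm]; exact hw⟩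
  obtain ⟨c, hc⟩ := Ideal.mem_span_singleton'.1 ((hp.mem_or_mem this).resolve_left hy)
  exact (Submodule.mem_smul_pointwise_iff_exists _ _ _).2 ⟨c, trivial, by rw [smul_eq_mul, mul_comm]; exact hc⟩

theorem isRegularLocalRing_of_principal_quot {B : Type u} [CommRing B] [IsNoetherianRing B] [IsDomain B]
    (q : Ideal B) [q.IsPrime] (t : B) (ht : t ≠ 0) (htq : t ∈ q) (hxBp : (Ideal.span {t}).IsPrime)
    [IsPrincipalIdealRing (B ⧸ Ideal.span {t})] : IsRegularLocalRing (Localization.AtPrime q) := by
  let xB : Ideal B := Ideal.span {t}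
  let xR : (Localization.AtPrime q) := algebraMap B (Localization.AtPrime q) t
  have hxR : xR ∈ maximalIdeal (Localization.AtPrime q) := (IsLocalization.AtPrime.to_map_mem_maximal_iff (Localization.AtPrime q) q _).2 htq
  have hspan : Ideal.span {xR} = xB.map (algebraMap B (Localization.AtPrime q)) := by
    simp only [xB, xR, Ideal.map_span, Set.image_singleton]
  haveI : IsDomain ((Localization.AtPrime q) ⧸ Ideal.span {xR}) := by
    rw [Ideal.Quotient.isDomain_iff_prime, hspan]
    refine IsLocalization.isPrime_of_isPrime_disjoint q.primeCompl (Localization.AtPrime q) _ hxBp ?_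
    rw [Set.disjoint_left]
    exact fun z hz hz' => hz ((Ideal.span_singleton_le_iff_mem q).2 htq hz')
  haveI : IsPrincipalIdealRing ((Localization.AtPrime q) ⧸ Ideal.span {xR}) := ⟨fun K => by
    let J := (K.comap (Ideal.Quotient.mk (Ideal.span {xR}))).comap (algebraMap B (Localization.AtPrime q))
    obtain ⟨g, hg⟩ := (IsPrincipalIdealRing.principal (J.map (Ideal.Quotient.mk xB))).principal
    obtain ⟨g, rfl⟩ := Ideal.Quotient.mk_surjective g
    refine ⟨⟨Ideal.Quotient.mk _ (algebraMap B (Localization.AtPrime q) g), ?_⟩⟩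
    have hK : K = (J.map (algebraMap B (Localization.AtPrime q))).map (Ideal.Quotient.mk (Ideal.span {xR})) := by
      rw [show J.map (algebraMap B (Localization.AtPrime q)) = K.comap (Ideal.Quotient.mk (Ideal.span {xR})) from
        IsLocalization.map_under q.primeCompl (Localization.AtPrime q) _,
        Ideal.map_comap_of_surjective _ Ideal.Quotient.mk_surjective]
    have hJx : xB ≤ J := fun z hz => by
      show Ideal.Quotient.mk (Ideal.span {xR}) (algebraMap B (Localization.AtPrime q) z) ∈ K
      rw [Ideal.Quotient.eq_zero_iff_mem.2 (hspan.ge (Ideal.mem_map_of_mem _ hz))]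
      exact zero_mem _
    have hJ : J = Ideal.span {g} ⊔ xB := by
      have h1 : J.map (Ideal.Quotient.mk xB) = (Ideal.span {g}).map (Ideal.Quotient.mk xB) := by
        rw [hg, Ideal.map_span, Set.image_singleton]
      have h2 := congrArg (Ideal.comap (Ideal.Quotient.mk xB)) h1
      rw [Ideal.comap_map_of_surjective _ Ideal.Quotient.mk_surjective,
        Ideal.comap_map_of_surjective _ Ideal.Quotient.mk_surjective, ← RingHom.ker_eq_comap_bot,
        Ideal.mk_ker, sup_eq_left.2 hJx] at h2
      exact h2
    rw [hK, hJ, Ideal.map_sup, Ideal.map_sup, ← hspan, Ideal.map_quotient_self, sup_bot_eq, Ideal.map_span,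
      Ideal.map_span, Set.image_singleton, Set.image_singleton]⟩
  haveI : IsLocalRing ((Localization.AtPrime q) ⧸ Ideal.span {xR}) := RegLoc6.isLocalRing_quot hxR
  refine RegLoc6.of_quotient hxR (isSMulRegular_iff_right_eq_zero_of_smul.mpr fun z hz => ?_)
  haveI : IsDomain (Localization.AtPrime q) := IsLocalization.isDomain_localization q.primeCompl_le_nonZeroDivisors
  refine (mul_eq_zero.1 hz).resolve_left fun h => ht ?_
  exact IsLocalization.injective (Localization.AtPrime q) q.primeCompl_le_nonZeroDivisors (h.trans (map_zero _).symm)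

theorem isRegularLocalRing_chart (hA : ringKrullDim A = 2) {x y : A} (hx : x ≠ 0)
    (hxy : Ideal.span {x, y} = maximalIdeal A)
    (q : Ideal (BlowUp.affineAlgebra A (maximalIdeal A) x)) [q.IsPrime]
    (hq : algebraMap A (BlowUp.affineAlgebra A (maximalIdeal A) x) x ∈ q) :
    IsRegularLocalRing (Localization.AtPrime q) := by
  haveI := RegLoc6.isDomain_of_isRegularLocalRing A
  let B := BlowUp.affineAlgebra A (maximalIdeal A) x
  have hym : y ∈ maximalIdeal A := hxy ▸ Ideal.subset_span (Set.mem_insert_of_mem _ rfl)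
  have hxm : x ∈ maximalIdeal A := hxy ▸ Ideal.subset_span (Set.mem_insert _ _)
  let e : B := ⟨IsLocalization.mk' (Localization.Away x) y ⟨x, Submonoid.mem_powers _⟩,
    Algebra.subset_adjoin ⟨y, hym, rfl⟩⟩
  let ψ : MvPolynomial (Fin 1) A →ₐ[A] B := MvPolynomial.aeval fun _ => e
  have hsurj : Function.Surjective ψ := by
    rintro ⟨z, hz⟩
    suffices ∀ (z) (hz : z ∈ B), (⟨z, hz⟩ : B) ∈ ψ.range from this z hz
    intro z hz
    induction hz using Algebra.adjoin_induction with
    | algebraMap r => exact ψ.range.algebraMap_mem r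
    | add p q hp hq hp' hq' => exact ψ.range.add_mem hp' hq'
    | mul p q hp hq hp' hq' => exact ψ.range.mul_mem hp' hq'
    | mem p hp =>
      obtain ⟨c, hc, rfl⟩ := hp
      rw [← hxy, Ideal.mem_span_pair] at hc
      obtain ⟨r, s, rfl⟩ := hc
      refine ⟨MvPolynomial.C r + MvPolynomial.C s * MvPolynomial.X 0, Subtype.ext ?_⟩
      simp only [ψ, AlgHom.toRingHom_eq_coe, RingHom.coe_coe, map_add, map_mul, MvPolynomial.aeval_C, MvPolynomial.aeval_X]
      show algebraMap A (Localization.Away x) r + algebraMap A (Localization.Away x) s *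
          IsLocalization.mk' (Localization.Away x) y ⟨x, Submonoid.mem_powers _⟩ = _
      rw [eq_comm, IsLocalization.mk'_eq_iff_eq_mul, map_add, map_mul, map_mul, add_mul, mul_assoc,
        IsLocalization.mk'_spec (Localization.Away x) y ⟨x, Submonoid.mem_powers _⟩]
  have hker : RingHom.ker ψ.toRingHom ≤ Ideal.map (MvPolynomial.C : A →+* MvPolynomial (Fin 1) A) (maximalIdeal A) := by
    intro z hz
    have h1 : z ∈ RingHom.ker (MvPolynomial.aeval (R := A) (S₁ := Localization.Away x)
        (fun _ : Fin 1 => IsLocalization.mk' (Localization.Away x) y (⟨x, Submonoid.mem_powers x⟩ : Submonoid.powers x))) := by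
      have h2 : (MvPolynomial.aeval (R := A) (S₁ := Localization.Away x)
        (fun _ : Fin 1 => IsLocalization.mk' (Localization.Away x) y (⟨x, Submonoid.mem_powers x⟩ : Submonoid.powers x))) =
          B.val.comp ψ := MvPolynomial.algHom_ext fun i => by simp [ψ, e]
      rw [RingHom.mem_ker, h2]
      show ((ψ z : B) : Localization.Away x) = 0
      rw [show ψ z = 0 from hz]
      rfl
    have h3 := S0615.result ![x, y] (regular_pair hA hx hxy)
    have h4 : z ∈ Ideal.span (Set.range fun i : Fin 1 =>
        MvPolynomial.C (![x, y] 0) * MvPolynomial.X i - MvPolynomial.C (![x, y] i.succ)) := by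
      rw [← h3]
      convert h1 using 3
      all_goals simp [Fin.eq_zero]
    refine Ideal.span_le.2 ?_ h4
    rintro _ ⟨i, rfl⟩
    have : i.succ = (1 : Fin 2) := by rw [Fin.eq_zero i]; rfl
    simp only [this, Matrix.cons_val_zero, Matrix.cons_val_one, Matrix.cons_val_fin_one, SetLike.mem_coe]
    exact Ideal.sub_mem _ (Ideal.mul_mem_right _ _ (Ideal.mem_map_of_mem _ hxm)) (Ideal.mem_map_of_mem _ hym)
  let xB : Ideal B := Ideal.span {algebraMap A B x}
  have hxB : xB = (Ideal.map (MvPolynomial.C : A →+* MvPolynomial (Fin 1) A) (maximalIdeal A)).map ψ.toRingHom := by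
    rw [Ideal.map_map, show ψ.toRingHom.comp MvPolynomial.C = algebraMap A B from RingHom.ext fun r => ψ.commutes r,
      ← hxy, Ideal.map_span, Set.image_pair]
    refine le_antisymm (Ideal.span_mono (by simp)) (Ideal.span_le.2 ?_)
    rintro z (rfl | rfl)
    · exact Ideal.subset_span rfl
    · refine Ideal.mem_span_singleton'.2 ⟨e, Subtype.ext ?_⟩
      exact IsLocalization.mk'_spec (Localization.Away x) y ⟨x, Submonoid.mem_powers _⟩
  have hxBp : xB.IsPrime := by
    haveI : (Ideal.map (MvPolynomial.C : A →+* MvPolynomial (Fin 1) A) (maximalIdeal A)).IsPrime :=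
      (Ideal.Quotient.isDomain_iff_prime _).1
        (MulEquiv.isDomain _ (MvPolynomial.quotientEquivQuotientMvPolynomial (maximalIdeal A)).toRingEquiv.toMulEquiv.symm)
    rw [hxB]
    exact Ideal.map_isPrime_of_surjective hsurj hker
  haveI : IsPrincipalIdealRing (B ⧸ xB) := by
    let φ₀ : A ⧸ maximalIdeal A →+* B ⧸ xB := Ideal.Quotient.lift _ ((Ideal.Quotient.mk xB).comp (algebraMap A B))
      fun a ha => Ideal.Quotient.eq_zero_iff_mem.2 (by
        rw [hxB, Ideal.map_map, show ψ.toRingHom.comp MvPolynomial.C = algebraMap A B from RingHom.ext fun r => ψ.commutes r]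
        exact Ideal.mem_map_of_mem _ ha)
    letI : Field (A ⧸ maximalIdeal A) := Ideal.Quotient.field _
    refine IsPrincipalIdealRing.of_surjective (Polynomial.eval₂RingHom φ₀ (Ideal.Quotient.mk xB e)) fun w => ?_
    obtain ⟨b, rfl⟩ := Ideal.Quotient.mk_surjective w
    obtain ⟨P, rfl⟩ := hsurj b
    refine ⟨MvPolynomial.eval₂ ((Polynomial.C).comp (Ideal.Quotient.mk (maximalIdeal A))) (fun _ => Polynomial.X) P, ?_⟩
    have h5 : ((Polynomial.eval₂RingHom φ₀ (Ideal.Quotient.mk xB e)).comp
        (MvPolynomial.eval₂Hom ((Polynomial.C).comp (Ideal.Quotient.mk (maximalIdeal A))) (fun _ : Fin 1 => Polynomial.X))) =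
        (Ideal.Quotient.mk xB).comp ψ.toRingHom := MvPolynomial.ringHom_ext (fun r => by simp [φ₀, ψ]) (fun i => by simp [ψ])
    exact RingHom.congr_fun h5 P
  haveI : IsNoetherianRing B := isNoetherianRing_of_surjective _ _ ψ.toRingHom hsurj
  haveI : IsDomain (Localization.Away x) :=
    IsLocalization.isDomain_localization (powers_le_nonZeroDivisors_of_noZeroDivisors hx)
  haveI : IsDomain B := inferInstanceAs (IsDomain (BlowUp.affineAlgebra A (maximalIdeal A) x))
  refine isRegularLocalRing_of_principal_quot q (algebraMap A B x) (fun h1 => hx ?_) hq hxBp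
  refine IsLocalization.injective (Localization.Away x) (powers_le_nonZeroDivisors_of_noZeroDivisors hx) ?_
  rw [map_zero]
  exact congrArg Subtype.val h1

theorem isRegularLocalRing_stalk_spec {B : Type u} [CommRing B] (p : PrimeSpectrum B)
    (h : IsRegularLocalRing (Localization.AtPrime p.asIdeal)) :
    IsRegularLocalRing ((Spec (CommRingCat.of B)).presheaf.stalk p) := by
  let r : Localization.AtPrime p.asIdeal ≃+* (Spec (CommRingCat.of B)).presheaf.stalk p :=
    (IsLocalization.algEquiv p.asIdeal.primeCompl (Localization.AtPrime p.asIdeal)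
      ((Spec.structureSheaf B).presheaf.stalk p)).toRingEquiv
  exact IsRegularLocalRing.of_ringEquiv r

theorem isRegularLocalRing_stalk (hA : ringKrullDim A = 2) (z : Z A) :
    IsRegularLocalRing ((Z A).presheaf.stalk z) := by
  haveI := RegLoc6.isDomain_of_isRegularLocalRing A
  haveI := isIntegral A hA
  by_cases hz : toA A z ∈ ((centre (maximalIdeal A)).support : Set (Spec (CommRingCat.of A)))
  · obtain ⟨x, y, hx, hy, hxy⟩ := exists_params A hA
    have key : ∀ (x y : A) (hx : x ≠ 0) (hxy : Ideal.span {x, y} = maximalIdeal A)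
        (hxm : x ∈ maximalIdeal A),
        z ∈ (chart (maximalIdeal A) ⟨x, hxm⟩).opensRange → IsRegularLocalRing ((Z A).presheaf.stalk z) := by
      intro x y hx hxy hxm hzc
      obtain ⟨p, rfl⟩ := hzc
      let B := BlowUp.affineAlgebra A (maximalIdeal A) x
      let p' : PrimeSpectrum B := p
      have hp : algebraMap A B x ∈ p'.asIdeal := by
        rw [← Scheme.Hom.comp_apply, chart_toBase] at hz
        rw [Scheme.IdealSheafData.coe_support_ofIdealTop, Spec_zeroLocus] at hz
        exact hz (Ideal.mem_map_of_mem _ hxm)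
      haveI := isRegularLocalRing_stalk_spec p' (isRegularLocalRing_chart hA hx hxy p'.asIdeal hp)
      exact IsRegularLocalRing.of_ringEquiv
        (asIso ((chart (maximalIdeal A) ⟨x, hxm⟩).stalkMap p)).commRingCatIsoToRingEquiv.symm
    have hxm : x ∈ maximalIdeal A := hxy ▸ Ideal.subset_span (Set.mem_insert _ _)
    have hym : y ∈ maximalIdeal A := hxy ▸ Ideal.subset_span (Set.mem_insert_of_mem _ rfl)
    rcases Opens.mem_sup.1 ((chart_covers_two ⟨x, hxm⟩ ⟨y, hym⟩ hxy).ge (Opens.mem_top z)) with h | h
    · exact key x y hx hxy hxm h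
    · exact key y x hy (by rw [Set.pair_comm]; exact hxy) hym h
  · let U : (Spec (CommRingCat.of A)).Opens := (centre (maximalIdeal A)).support.compl
    haveI : IsIso (toA A ∣_ U) := BlowUpX.isIso_restrict (isBlowUp_local (maximalIdeal A))
    have hzU : toA A z ∈ U := hz
    haveI : IsIso ((toA A).stalkMap z) := by
      haveI : IsIso ((toA A ∣_ U).stalkMap ⟨z, hzU⟩) := inferInstance
      exact ((MorphismProperty.isomorphisms CommRingCat).arrow_mk_iso_iff
        (morphismRestrictStalkMap (toA A) U ⟨z, hzU⟩)).1 this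
    let p : PrimeSpectrum A := toA A z
    haveI := isRegularLocalRing_stalk_spec p (RegLoc6.isRegularLocalRing_localization A p.asIdeal)
    exact IsRegularLocalRing.of_ringEquiv (asIso ((toA A).stalkMap z)).commRingCatIsoToRingEquiv

end Groth.Agent.PointBlowUp
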