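import Groth.Agent.PointBlowUp.Transfer
import Groth.Agent.RatSingReg.Chart
import Groth.Agent.ModPairLib.Basic
import Groth.Agent.OmegaLib.IdealMod
import Groth.Agent.IdealSub.OfMono
import Groth.Agent.IntSym.Cartier
import Groth.Agent.InvX.Tensor
import Groth.Agent.Lib.Euler
import Groth.Agent.QCoh.HHExact
import Groth.Agent.RegLoc6.Normal
import Groth.Agent.ContractUP.Unique
import Groth.Agent.S1623
import Groth.Agent.S1624

/-! Thickenings of the exceptional curve of a blown-up two-dimensional regular local ring: the functions on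
the `n`-th one are `A/mⁿ`, and their higher cohomology vanishes. -/

noncomputable section

set_option autoImplicit false
set_option linter.style.haveILetI false
set_option linter.unusedSectionVars false
set_option backward.isDefEq.respectTransparency false
set_option backward.isDefEq.respectTransparency.types false
set_option maxHeartbeats 1000000

universe u

open CategoryTheory CategoryTheory.Limits AlgebraicGeometry TopologicalSpace Opposite IsLocalRing

namespace Groth.Agent.PointBlowUp

open Groth.Agent Groth.Agent.BlowUpLib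

/-- An ideal sheaf whose ideals are generated by global functions has a globally generated module. -/
theorem gg_idealMod {X : Scheme.{u}} (K : X.IdealSheafData) (m₀ : Ideal Γ(X, ⊤))
    (h : ∀ U : X.affineOpens, K.ideal U = m₀.map (X.presheaf.map (homOfLE (le_top : U.1 ≤ ⊤)).op).hom) :
    Curv2.IsGloballyGenerated (ClSub.idealMod K) := by
  have hker : ∀ r ∈ m₀, ∃ k, OmegaSh.idealSect K ⊤ k = r := fun r hr => by
    refine OmegaLib.exists_idealSect_eq K ⊤ r ?_
    refine TopCat.Sheaf.eq_of_locally_eq' K.subscheme.sheaf (fun U : X.affineOpens => K.subschemeι ⁻¹ᵁ U.1)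
      (K.subschemeι ⁻¹ᵁ ⊤) (fun U => homOfLE le_top) ?_ _ _ fun U => ?_
    · intro z _
      obtain ⟨_, ⟨V, hV, rfl⟩, hzV, -⟩ :=
        X.isBasis_affineOpens.exists_subset_of_mem_open (Set.mem_univ (K.subschemeι z)) isOpen_univ
      exact Opens.mem_iSup.2 ⟨⟨V, hV⟩, hzV⟩
    · have hm : X.presheaf.map (homOfLE (le_top : U.1 ≤ ⊤)).op r ∈ K.ideal U :=
        (h U).ge (Ideal.mem_map_of_mem _ hr)
      rw [← K.ker_subschemeι_app, RingHom.mem_ker] at hm
      have hn := congr($(K.subschemeι.naturality (homOfLE (le_top : U.1 ≤ ⊤)).op) r)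
      erw [map_zero]
      exact hn.symm.trans hm
  refine Euler.GG.isGloballyGenerated fun T g hg => ?_
  have hz : ∀ k : Γ(ClSub.idealMod K, ⊤), g.app ⊤ k = 0 := fun k => by
    have h1 : InvX.one (InvX.ofSect k ≫ g) = 0 := by rw [hg (InvX.ofSect k)]; rfl
    have h2 : InvX.one (InvX.ofSect k ≫ g) = g.app ⊤ (InvX.one (InvX.ofSect k)) := rfl
    rw [h2, InvX.one_ofSect] at h1
    exact h1
  refine IdealSub.hom_eq_of_affine g 0 fun U t => ?_
  have key : ∀ r ∈ Ideal.map (X.presheaf.map (homOfLE (le_top : U.1 ≤ ⊤)).op).hom m₀,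
      ∃ s, OmegaSh.idealSect K U.1 s = r ∧ g.app U.1 s = 0 := by
    intro r hr
    induction hr using Submodule.span_induction with
    | mem r hr =>
      obtain ⟨r', hr', rfl⟩ := hr
      obtain ⟨k, hk⟩ := hker r' hr'
      refine ⟨(ClSub.idealMod K).presheaf.map (homOfLE (le_top : U.1 ≤ ⊤)).op k, ?_, ?_⟩
      · rw [OmegaLib.idealSect_map, hk]
      · have := ConcreteCategory.congr_hom (g.mapPresheaf.naturality (homOfLE (le_top : U.1 ≤ ⊤)).op) k
        refine Eq.trans this ?_
        show T.presheaf.map _ (g.app ⊤ k) = 0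
        rw [hz k, map_zero]
    | zero => exact ⟨0, map_zero _, map_zero _⟩
    | add a b _ _ ha hb =>
      obtain ⟨s, hs, hs'⟩ := ha
      obtain ⟨s', hs₁, hs₂⟩ := hb
      exact ⟨s + s', by rw [map_add, hs, hs₁], by rw [map_add, hs', hs₂, add_zero]⟩
    | smul c a _ ha =>
      obtain ⟨s, hs, hs'⟩ := ha
      exact ⟨c • s, by rw [OmegaLib.idealSect_smul, hs, smul_eq_mul], by
        rw [Scheme.Modules.Hom.app_smul, hs', smul_zero]⟩
  obtain ⟨s, hs, hs'⟩ := key _ ((h U).le (OmegaLib.idealSect_mem K U t))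
  rw [← OmegaLib.idealSect_injective K U.1 hs, hs']
  rfl

variable (A : Type u) [CommRing A] [IsRegularLocalRing A]

/-- The scalars of a scheme over `A`. -/
def scalOf {A : Type u} [CommRing A] {Z : Scheme.{u}} (b : Z ⟶ Spec (CommRingCat.of A)) : A →+* Γ(Z, ⊤) :=
  ((Scheme.ΓSpecIso (CommRingCat.of A)).inv ≫ b.appTop).hom

/-- The ideals of a power of the inverse image of the maximal ideal. -/
theorem ideal_comap_pow {Z : Scheme.{u}} (b : Z ⟶ Spec (CommRingCat.of A)) (n : ℕ) (U : Z.affineOpens) :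
    (((Curv2.idealSheaf A (maximalIdeal A)).comap b) ^ n).ideal U =
      ((maximalIdeal A ^ n).map (scalOf b)).map (Z.presheaf.map (homOfLE (le_top : U.1 ≤ ⊤)).op).hom := by
  have h1 : ((Curv2.idealSheaf A (maximalIdeal A)).comap b).ideal U =
      ((maximalIdeal A).map (scalOf b)).map (Z.presheaf.map (homOfLE (le_top : U.1 ≤ ⊤)).op).hom := by
    rw [ModPairLib.ideal_comap _ b ⟨⊤, isAffineOpen_top _⟩ U le_top, Ideal.map_map]
    have hid : (Curv2.idealSheaf A (maximalIdeal A)).ideal ⟨⊤, isAffineOpen_top _⟩ =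
        (maximalIdeal A).map (Scheme.ΓSpecIso (CommRingCat.of A)).inv.hom := by
      rw [Curv2.idealSheaf, Scheme.IdealSheafData.ofIdealTop_ideal]
      erw [(Spec (CommRingCat.of A)).presheaf.map_id, Ideal.map_id]
    have hcomp : (b.appLE ⊤ U.1 le_top).hom.comp (Scheme.ΓSpecIso (CommRingCat.of A)).inv.hom =
        (Z.presheaf.map (homOfLE (le_top : U.1 ≤ ⊤)).op).hom.comp (scalOf b) := by
      rw [scalOf, Scheme.Hom.appLE, CommRingCat.hom_comp, CommRingCat.hom_comp, RingHom.comp_assoc]
    rw [hid, Ideal.map_map, hcomp]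
  rw [Scheme.IdealSheafData.ideal_pow, Pi.pow_apply, h1, ← Ideal.map_pow, ← Ideal.map_pow]

theorem isNormalScheme_spec : Pi1.IsNormalScheme (Spec (CommRingCat.of A)) := fun p => by
  haveI := RegLoc6.isDomain_of_isRegularLocalRing A
  haveI := RegLoc6.isIntegrallyClosed_of_isRegularLocalRing A
  let q : PrimeSpectrum A := p
  letI : Algebra A ((Spec (CommRingCat.of A)).presheaf.stalk p) := StructureSheaf.stalkAlgebra A q
  haveI : IsLocalization.AtPrime ((Spec (CommRingCat.of A)).presheaf.stalk p) q.asIdeal :=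
    StructureSheaf.IsLocalization.to_stalk A q
  have hle : q.asIdeal.primeCompl ≤ nonZeroDivisors A := q.asIdeal.primeCompl_le_nonZeroDivisors
  haveI : IsDomain ((Spec (CommRingCat.of A)).presheaf.stalk p) :=
    IsLocalization.isDomain_of_le_nonZeroDivisors _ hle
  exact ⟨inferInstance, isIntegrallyClosed_of_isLocalization _ _ hle⟩

/-- The functions on the blow-up are those of the base. -/
theorem scalOf_bijective (hA : ringKrullDim A = 2) {Z : Scheme.{u}} (b : Z ⟶ Spec (CommRingCat.of A))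
    (hb : BlowUp.IsBlowUp b (Curv2.idealSheaf A (maximalIdeal A))) : Function.Bijective (scalOf b) := by
  haveI := RegLoc6.isDomain_of_isRegularLocalRing A
  obtain ⟨hp, hi, ⟨U, hU, hiso⟩, -, -⟩ := main A hA b hb
  haveI := hp
  haveI := hi
  haveI := hiso
  obtain ⟨hgen, hbir, -⟩ := ContractUP.birational_of_isIso_restrict b hU
  haveI : IsIso b.appTop := ZarConn.isIso_app_of_birational (isNormalScheme_spec A) b hgen hbir ⊤
  exact ConcreteCategory.bijective_of_isIso ((Scheme.ΓSpecIso (CommRingCat.of A)).inv ≫ b.appTop)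

/-- An element of `A` vanishing to order `n` along the exceptional curve lies in `mⁿ`. -/
theorem mem_pow_of_mem_chart (hA : ringKrullDim A = 2) {Z : Scheme.{u}} (b : Z ⟶ Spec (CommRingCat.of A))
    (hb : BlowUp.IsBlowUp b (Curv2.idealSheaf A (maximalIdeal A))) (n : ℕ) (a : A)
    (h : ∀ U : Z.affineOpens, Z.presheaf.map (homOfLE (le_top : U.1 ≤ ⊤)).op (scalOf b a) ∈
      (((Curv2.idealSheaf A (maximalIdeal A)).comap b) ^ n).ideal U) :
    a ∈ maximalIdeal A ^ n := by
  haveI := RegLoc6.isDomain_of_isRegularLocalRing A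
  obtain ⟨e, he⟩ := exists_iso hb (isBlowUp_local (maximalIdeal A))
  obtain ⟨x, y, hx, hy, hxy⟩ := exists_params A hA
  let P := RatSingReg.params_of_span hA hxy
  let a₀ : maximalIdeal A := ⟨x, hxy ▸ Ideal.subset_span (Set.mem_insert _ _)⟩
  let K := FractionRing A
  let U₀ := (chart (maximalIdeal A) a₀).opensRange
  have hU₀ : IsAffineOpen (e.hom ⁻¹ᵁ U₀) := (isAffineOpen_opensRange _).preimage e.hom
  have hinv : U₀ ≤ e.inv ⁻¹ᵁ (e.hom ⁻¹ᵁ U₀) := by
    rw [← Scheme.Hom.comp_preimage, e.inv_hom_id]; rfl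
  let φ : Γ(Z, e.hom ⁻¹ᵁ U₀) →+* BlowUp.affineAlgebra A (maximalIdeal A) (a₀ : A) :=
    (chartHom a₀).comp (e.inv.appLE _ U₀ hinv).hom
  have hφ : φ.comp ((Z.presheaf.map (homOfLE (le_top : e.hom ⁻¹ᵁ U₀ ≤ ⊤)).op).hom.comp (scalOf b)) =
      algebraMap A _ := RingHom.ext fun r => by
    show chartHom a₀ (e.inv.appLE _ U₀ hinv (Z.presheaf.map (homOfLE le_top).op (scalOf b r))) = _
    have h2 : e.inv.appLE _ U₀ hinv (Z.presheaf.map (homOfLE le_top).op (scalOf b r)) =
        (PointBlowUp.Z A).presheaf.map (homOfLE le_top).op (scal A r) := by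
      show ((Scheme.ΓSpecIso (CommRingCat.of A)).inv ≫ b.appTop ≫ Z.presheaf.map (homOfLE le_top).op ≫
        e.inv.appLE _ U₀ hinv) r = ((Scheme.ΓSpecIso (CommRingCat.of A)).inv ≫ (toA A).appTop ≫
          (PointBlowUp.Z A).presheaf.map (homOfLE le_top).op) r
      have hcomp : e.inv ≫ b = toA A := (Iso.inv_comp_eq e).2 he.symm
      rw [Scheme.Hom.map_appLE, ← hcomp, Scheme.Hom.comp_appTop, Category.assoc]
      rfl
    rw [h2, chartHom_scal]
  have ha := Ideal.mem_map_of_mem φ (h ⟨_, hU₀⟩)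
  rw [ideal_comap_pow, Ideal.map_map, Ideal.map_map, RingHom.comp_assoc, hφ] at ha
  have ha' : algebraMap A (BlowUp.affineAlgebra A (maximalIdeal A) (a₀ : A)) a ∈
      (maximalIdeal A ^ n).map (algebraMap A _) := by
    have := DFunLike.congr_fun hφ a
    rw [← this]
    exact ha
  let ψ : Localization.Away (a₀ : A) →+* K := IsLocalization.Away.lift (a₀ : A) (g := algebraMap A K)
    (IsUnit.mk0 _ (RatSingReg.algebraMap_ne K hx))
  have hψ : ∀ r, ψ (algebraMap A _ r) = algebraMap A K r := IsLocalization.Away.lift_eq _ _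
  have hψm : ∀ z : BlowUp.affineAlgebra A (maximalIdeal A) (a₀ : A), ψ z.1 ∈ RatSingReg.chart K x y := by
    rintro ⟨z, hz⟩
    induction hz using Algebra.adjoin_induction with
    | algebraMap r => show ψ (algebraMap A _ r) ∈ _; rw [hψ]; exact RatSingReg.algebraMap_mem_chart K r
    | add p q _ _ hp hq => show ψ (p + q) ∈ _; rw [map_add]; exact add_mem hp hq
    | mul p q _ _ hp hq => show ψ (p * q) ∈ _; rw [map_mul]; exact mul_mem hp hq
    | mem p hp =>
      obtain ⟨c, hc, rfl⟩ := hp
      rw [← hxy, Ideal.mem_span_pair] at hc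
      obtain ⟨r, s, rfl⟩ := hc
      show ψ (IsLocalization.mk' (Localization.Away (a₀ : A)) (r * x + s * y)
        ⟨x, Submonoid.mem_powers _⟩) ∈ _
      have : ψ (IsLocalization.mk' (Localization.Away (a₀ : A)) (r * x + s * y) ⟨x, Submonoid.mem_powers _⟩) =
          algebraMap A K r + algebraMap A K s * RatSingReg.frac K x y := by
        refine mul_left_cancel₀ (RatSingReg.algebraMap_ne K hx) ?_
        have h1 : ψ (algebraMap A _ x) * ψ (IsLocalization.mk' (Localization.Away (a₀ : A)) (r * x + s * y)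
            ⟨x, Submonoid.mem_powers _⟩) = ψ (algebraMap A _ (r * x + s * y)) := by
          rw [← map_mul]
          exact congrArg ψ (IsLocalization.mk'_spec' (Localization.Away (a₀ : A)) (r * x + s * y)
            ⟨x, Submonoid.mem_powers _⟩)
        rw [hψ, hψ] at h1
        rw [h1, mul_add, mul_left_comm, RatSingReg.mul_frac K P, map_add, map_mul, map_mul,
          mul_comm (algebraMap A K x)]
      rw [this]
      exact add_mem (RatSingReg.algebraMap_mem_chart K r)
        (mul_mem (RatSingReg.algebraMap_mem_chart K s) (RatSingReg.frac_mem_chart K))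
  let χ : BlowUp.affineAlgebra A (maximalIdeal A) (a₀ : A) →+* RatSingReg.chart K x y :=
    (ψ.comp (BlowUp.affineAlgebra A (maximalIdeal A) (a₀ : A)).val.toRingHom).codRestrict _ hψm
  have h3 := Ideal.mem_map_of_mem χ ha'
  have hχ : χ.comp (algebraMap A _) = RatSingReg.toChart K (x := x) (y := y) := RingHom.ext fun r =>
    Subtype.ext (by
      rw [RatSingReg.coe_toChart]
      exact hψ r)
  rw [Ideal.map_map, hχ, Ideal.map_pow, ← RatSingReg.map_maximalIdeal_chart K P, Ideal.span_singleton_pow,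
    ← RingHom.comp_apply, hχ, Ideal.mem_span_singleton'] at h3
  obtain ⟨c, hc⟩ := h3
  refine (RatSingReg.mem_pow_iff K P n a).2 ⟨c.1, c.2, ?_⟩
  have h4 := congrArg Subtype.val hc
  rw [Subring.coe_mul, SubmonoidClass.coe_pow, RatSingReg.coe_toChart, RatSingReg.coe_toChart] at h4
  rw [← h4, mul_comm]

/-- The functions on the `n`-th thickening of the exceptional curve are `A/mⁿ`; no higher cohomology. -/
theorem local_thick (hA : ringKrullDim A = 2) {Z : Scheme.{u}} (b : Z ⟶ Spec (CommRingCat.of A))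
    (hb : BlowUp.IsBlowUp b (Curv2.idealSheaf A (maximalIdeal A))) (n : ℕ) {T : Scheme.{u}} (l : T ⟶ Z)
    [IsClosedImmersion l] (hl : l.ker = ((Curv2.idealSheaf A (maximalIdeal A)).comap b) ^ n) :
    Function.Surjective (scalOf (l ≫ b)) ∧ RingHom.ker (scalOf (l ≫ b)) = maximalIdeal A ^ n ∧
      ∀ i, Subsingleton (Coh.HH T (Coh.structureModule T) (i + 1)) := by
  obtain ⟨hp, -, -, -, h1⟩ := main A hA b hb
  have hpow := ideal_comap_pow A b n
  rw [← hl] at hpow
  let K := l.ker
  have hQ : Coh.IsQCoh (ClSub.quotMod K) :=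
    QCoh.isQCoh_pushforward K.subschemeι QCoh.isQCoh_structureModule
  have hKq : Coh.IsQCoh (ClSub.idealMod K) :=
    QCoh.isQCoh_kernel QCoh.isQCoh_structureModule hQ _
  have hI1 : Subsingleton (Coh.HH Z (ClSub.idealMod K) 1) :=
    S1624.result A hA Z b hb _ hKq (gg_idealMod K _ hpow)
  have hS := IntSym.shortExact_toSubscheme K
  have hι : Function.Surjective (K.subschemeι.appTop) := by
    intro t
    obtain ⟨s, hs⟩ := QCoh.app_top_surjective_of_HH_one hS hI1 t
    exact ⟨s, hs⟩
  haveI : IsIso l.toImage := inferInstance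
  have htop : IsIso l.toImage.appTop := inferInstance
  have hl' : l.toImage ≫ K.subschemeι = l := l.toImage_imageι
  have happ : l.appTop = K.subschemeι.appTop ≫ l.toImage.appTop := by
    conv_lhs => rw [← hl']
    exact Scheme.Hom.comp_appTop _ _
  have hsc : ∀ a, scalOf (l ≫ b) a = l.toImage.appTop (K.subschemeι.appTop (scalOf b a)) := fun a => by
    show ((Scheme.ΓSpecIso (CommRingCat.of A)).inv ≫ (l ≫ b).appTop) a = _
    rw [Scheme.Hom.comp_appTop, happ]
    rfl
  have hbij := scalOf_bijective A hA b hb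
  refine ⟨fun t => ?_, ?_, fun i => ?_⟩
  · obtain ⟨s, hs⟩ := (ConcreteCategory.bijective_of_isIso l.toImage.appTop).2 t
    obtain ⟨r, hr⟩ := hι s
    obtain ⟨a, rfl⟩ := hbij.2 r
    exact ⟨a, by rw [hsc, hr, hs]⟩
  · ext a
    rw [RingHom.mem_ker, hsc, map_eq_zero_iff _ (ConcreteCategory.bijective_of_isIso l.toImage.appTop).1]
    refine ⟨fun ha => mem_pow_of_mem_chart A hA b hb n a fun U => ?_, fun ha => ?_⟩
    · rw [← hl, ← K.ker_subschemeι_app, RingHom.mem_ker]
      have := congr($(K.subschemeι.naturality (homOfLE (le_top : U.1 ≤ ⊤)).op) (scalOf b a))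
      refine this.trans ?_
      show K.subscheme.presheaf.map _ (K.subschemeι.appTop (scalOf b a)) = 0
      rw [ha, map_zero]
    · obtain ⟨k, hk⟩ : ∃ k, OmegaSh.idealSect K ⊤ k = scalOf b a := by
        refine OmegaLib.exists_idealSect_eq K ⊤ _ ?_
        refine TopCat.Sheaf.eq_of_locally_eq' K.subscheme.sheaf (fun U : Z.affineOpens => K.subschemeι ⁻¹ᵁ U.1)
          (K.subschemeι ⁻¹ᵁ ⊤) (fun U => homOfLE le_top) ?_ _ _ fun U => ?_
        · intro z _
          obtain ⟨_, ⟨V, hV, rfl⟩, hzV, -⟩ :=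
            Z.isBasis_affineOpens.exists_subset_of_mem_open (Set.mem_univ (K.subschemeι z)) isOpen_univ
          exact Opens.mem_iSup.2 ⟨⟨V, hV⟩, hzV⟩
        · have hm : Z.presheaf.map (homOfLE (le_top : U.1 ≤ ⊤)).op (scalOf b a) ∈ K.ideal U :=
            (hpow U).ge (Ideal.mem_map_of_mem _ (Ideal.mem_map_of_mem _ ha))
          rw [← K.ker_subschemeι_app, RingHom.mem_ker] at hm
          have hn := congr($(K.subschemeι.naturality (homOfLE (le_top : U.1 ≤ ⊤)).op) (scalOf b a))
          erw [map_zero]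
          exact hn.symm.trans hm
      rw [← hk]
      exact OmegaLib.subschemeι_app_idealSect K ⊤ k
  · obtain ⟨a⟩ := NefCurve.push_structure_of_isIso l.toImage
    obtain ⟨E⟩ := QCoh.HH_push_of_isAffineHom l.toImage (PnCoh.isQCoh_structureModule T) (i + 1)
    obtain ⟨F⟩ := QCoh.HH_push_of_isAffineHom K.subschemeι (PnCoh.isQCoh_structureModule K.subscheme) (i + 1)
    have hQi : Subsingleton (Coh.HH Z (ClSub.quotMod K) (i + 1)) := by
      cases i with
      | zero =>
        exact PnCoh.Finite.subsingleton_HH_X₃ hS 1 h1 (S1623.result A hA Z b hb _ hKq (1 + 1) le_rfl)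
      | succ j => exact S1623.result A hA Z b hb _ hQ _ (by omega)
    haveI : Subsingleton (Coh.HH K.subscheme (Coh.structureModule K.subscheme) (i + 1)) :=
      F.toEquiv.subsingleton_congr.2 hQi
    haveI := QCoh.subsingleton_HH_of_iso a.symm (i + 1) ‹_›
    exact E.toEquiv.subsingleton

end Groth.Agent.PointBlowUp
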