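import Groth.Agent.PointBlowUp.Inter
import Groth.Agent.PointBlowUp.PicGlobal
import Groth.Agent.SurfCone.Classes
import Groth.Agent.IntSym.NumEuler
import Groth.Agent.SmoothReg.Scheme

/-! The Picard group and the numerical classes of the blowing up of a point of a surface. -/

noncomputable section

set_option autoImplicit false
set_option linter.style.haveILetI false
set_option linter.unusedSectionVars false
set_option backward.isDefEq.respectTransparency false
set_option backward.isDefEq.respectTransparency.types false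
set_option maxHeartbeats 1000000

universe u

open CategoryTheory CategoryTheory.Limits AlgebraicGeometry TopologicalSpace Opposite
open scoped Groth.Agent.H23.PicMul TensorProduct

namespace Groth.Agent.PointBlowUp

open Groth.Agent

section Point

variable (k : Type u) [Field k] {X : Scheme.{u}} [X.Over (Spec (CommRingCat.of k))]

theorem regular_point [Smooth (X ↘ Spec (CommRingCat.of k))] [IsIntegral X]
    (hdim : topologicalKrullDim X = 2) (x : X) (hx : IsClosed ({x} : Set X)) :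
    IsRegularLocalRing (X.presheaf.stalk x) ∧ ringKrullDim (X.presheaf.stalk x) = 2 :=
  ⟨GrpSchLib.isRegularLocalRing_stalk_of_smooth (X ↘ Spec (CommRingCat.of k)) x,
    (SmoothReg.ringKrullDim_stalk_closedPoint (X ↘ Spec (CommRingCat.of k)) hx).trans hdim⟩

theorem finrank_residueField_eq_one [IsAlgClosed k] [LocallyOfFiniteType (X ↘ Spec (CommRingCat.of k))]
    (x : X) (hx : IsClosed ({x} : Set X)) :
    letI := Curv2.resAlgebra k X x
    Module.finrank k (X.residueField x) = 1 := by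
  letI := Curv2.resAlgebra k X x
  haveI : Module.Finite k (X.residueField x) := Kleiman.finite_resMap k hx
  rw [← Module.finrank_self k]
  exact (LinearEquiv.ofBijective (Algebra.linearMap k (X.residueField x))
    IsAlgClosed.algebraMap_bijective_of_isIntegral).finrank_eq.symm

variable [IsProper (X ↘ Spec (CommRingCat.of k))]

theorem pair_numTriv {L M : X.Modules} (hL : PicF.IsInvertible L) (h : Pic13.IsNumEquivZero k X L)
    (hM : PicF.IsInvertible M) : SurfRR.pair k L M = 0 := by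
  haveI := CurveCohLib.isNoetherian_of_proper (k := k) (X := X)
  rw [SurfRR.pair_comm k hL hM]
  show IntSym.sym k [M, L] _ = 0
  rw [IntSym.sym_cons, IntSym.sym_numTriv_eq_zero k hL h QCoh.isCoh_structureModule',
    IntSym.sym_numTriv_eq_zero k hL h (F := (AmpleVan.tw M).obj (Coh.structureModule X)) (AmpleVan.isCoh_tensor QCoh.isCoh_structureModule' (AmpleVan.isCoh_invertible hM)), sub_zero]

variable [PicGrp.Law X]

theorem cls_mul {L M : X.Modules} (hL : PicF.IsInvertible L) (hM : PicF.IsInvertible M) :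
    PicGrp.cls L hL * PicGrp.cls M hM =
      PicGrp.cls (CohB1.tensorMod L M) (InvX.isInvertible_tensorMod hL hM) :=
  Subtype.ext (PicGrp.cls_mul_cls_val hL hM)

/-- A representative of a class. -/
def rep (c : PicLoc.PicSet X) : X.Modules := (PicGrp.exists_eq_cls c).choose

theorem rep_inv (c : PicLoc.PicSet X) : PicF.IsInvertible (rep c) := (PicGrp.exists_eq_cls c).choose_spec.choose

theorem cls_rep (c : PicLoc.PicSet X) : PicGrp.cls (rep c) (rep_inv c) = c :=
  (PicGrp.exists_eq_cls c).choose_spec.choose_spec.symm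

variable {k} in
theorem pair_eq_of_cls_eq {A B M : X.Modules} {hA : PicF.IsInvertible A} {hB : PicF.IsInvertible B}
    (h : PicGrp.cls A hA = PicGrp.cls B hB) (hM : PicF.IsInvertible M) :
    SurfRR.pair k A M = SurfRR.pair k B M :=
  SurfRR.pair_congr k (congrArg Subtype.val h) hM

/-- Intersection with a fixed module, on Picard classes. -/
def pairHom (hd : topologicalKrullDim X ≤ ((2 : ℕ) : WithBot ℕ∞)) (M : X.Modules) (hM : PicF.IsInvertible M) :
    PicLoc.PicSet X →* Multiplicative ℤ :=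
  MonoidHom.mk' (fun c => Multiplicative.ofAdd (SurfRR.pair k (rep c) M)) fun a b => by
    rw [← ofAdd_add, ← SurfRR.pair_tensor k hd (rep_inv a) (rep_inv b) hM]
    refine congrArg _ (pair_eq_of_cls_eq (hA := rep_inv _)
      (hB := InvX.isInvertible_tensorMod (rep_inv a) (rep_inv b)) ?_ hM)
    rw [← cls_mul (rep_inv a) (rep_inv b), cls_rep, cls_rep, cls_rep]

/-- Intersection with a fixed module, on numerical classes. -/
def pairN1 (hd : topologicalKrullDim X ≤ ((2 : ℕ) : WithBot ℕ∞)) (M : X.Modules) (hM : PicF.IsInvertible M) :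
    NumR.N1 k X →+ ℤ :=
  MonoidHom.toAdditiveLeft (QuotientGroup.lift _ (pairHom k hd M hM) (by
    refine (Subgroup.closure_le _).2 ?_
    rintro _ ⟨L, hL, hLn, rfl⟩
    show Multiplicative.ofAdd (SurfRR.pair k (rep (PicGrp.cls L hL)) M) = 1
    rw [pair_eq_of_cls_eq (cls_rep _) hM (hB := hL), pair_numTriv k hL hLn hM, ofAdd_zero]))

theorem pairN1_cl (hd : topologicalKrullDim X ≤ ((2 : ℕ) : WithBot ℕ∞)) {M : X.Modules}
    (hM : PicF.IsInvertible M) {L : X.Modules} (hL : PicF.IsInvertible L) :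
    pairN1 k hd M hM (NumR.cl k X L hL) = SurfRR.pair k L M :=
  pair_eq_of_cls_eq (cls_rep _) hM (hB := hL)

theorem cl_tensor' {L M : X.Modules} (hL : PicF.IsInvertible L) (hM : PicF.IsInvertible M)
    (h : PicF.IsInvertible (CohB1.tensorMod L M)) :
    NumR.cl k X (CohB1.tensorMod L M) h = NumR.cl k X L hL + NumR.cl k X M hM := by
  show NumR.toN1 k X (Additive.ofMul _) = NumR.toN1 k X _ + NumR.toN1 k X _
  rw [← map_add, ← ofMul_mul, cls_mul]

theorem cl_pow' {L : X.Modules} (hL : PicF.IsInvertible L) : ∀ n : ℕ,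
    NumR.cl k X (CohB1.tensorPow L n) (InvX.isInvertible_tensorPow hL n) = n • NumR.cl k X L hL
  | 0 => by
    show NumR.toN1 k X (Additive.ofMul _) = _
    rw [show PicGrp.cls (CohB1.tensorPow L 0) (InvX.isInvertible_tensorPow hL 0) = 1 from
      PicGrp.cls_structureModule_eq_one, ofMul_one, map_zero, zero_smul]
  | n + 1 => by
    rw [succ_nsmul, ← cl_pow' hL n]
    exact cl_tensor' k (InvX.isInvertible_tensorPow hL n) hL _

theorem cl_eq_of_cl {L M : X.Modules} (hL : PicF.IsInvertible L) (hM : PicF.IsInvertible M)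
    (h : PicF.cl L = PicF.cl M) : NumR.cl k X L hL = NumR.cl k X M hM :=
  congrArg (fun c => NumR.toN1 k X (Additive.ofMul c)) (Subtype.ext h : PicGrp.cls L hL = PicGrp.cls M hM)

end Point

variable (k : Type u) [Field k] [IsAlgClosed k] {X X' : Scheme.{u}} [X.Over (Spec (CommRingCat.of k))]
  [X'.Over (Spec (CommRingCat.of k))] [IsProper (X ↘ Spec (CommRingCat.of k))]
  [IsProper (X' ↘ Spec (CommRingCat.of k))]
  (π : X' ⟶ X) (hπk : π ≫ (X ↘ Spec (CommRingCat.of k)) = X' ↘ Spec (CommRingCat.of k))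
  (x : X) (hx : IsClosed ({x} : Set X)) [IsRegularLocalRing (X.presheaf.stalk x)]
  (hdimx : ringKrullDim (X.presheaf.stalk x) = 2)
  (hπ : BlowUp.IsBlowUp π (Scheme.IdealSheafData.vanishingIdeal ⟨{x}, hx⟩))

include k hdimx hπ in
/-- Line bundles on the blown-up surface are pullbacks twisted by the exceptional curve. -/
theorem exists_decomp {L : X'.Modules} (hL : PicF.IsInvertible L) :
    ∃ N : X.Modules, PicF.IsInvertible N ∧ ∃ n : ℕ,
      PicF.cl L = PicF.pullCl π (PicF.cl N) * PicF.cl (ClSub.idealMod (exc π x hx)) ^ n ∨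
        PicF.cl L * PicF.cl (ClSub.idealMod (exc π x hx)) ^ n = PicF.pullCl π (PicF.cl N) := by
  haveI := CurveCohLib.isNoetherian_of_proper (k := k) (X := X)
  haveI := isProper_pi k π x hx hπ
  obtain ⟨e, -, ⟨w⟩⟩ := exists_exc_iso_point π x hx hdimx hπ
  let I : X'.Modules := ClSub.idealMod (exc π x hx)
  let κ := X.residueField x
  let j : CohB1.ProjSpace 1 κ ⟶ X' := e.hom ≫ (exc π x hx).subschemeι
  have hIi : PicF.IsInvertible I := (S8914.result (exc π x hx)).2 hπ.1
  obtain ⟨J, hJ, eJ⟩ := H23.PicInv.exists_inverse hIi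
  have hIJ : PicF.cl I * PicF.cl J = 1 := (PicGrp.cl_eq_cl_iff _ _).2 eJ
  have hcI : PicF.pullCl j (PicF.cl I) = PicF.cl (Twist.twistProjSpace 1 κ 1) :=
    (PicGrp.cl_eq_cl_iff _ _).2 ⟨w⟩
  have hpowI : ∀ n : ℕ, PicF.pullCl j (PicF.cl I ^ n) = PicF.cl (Twist.twistProjSpace 1 κ n) := by
    intro n
    rw [H23.PicMul.pullCl_pow, hcI]
    induction n with
    | zero => rw [pow_zero, Nat.cast_zero, PnPic.cl_twistProjSpace_zero]
    | succ n ih => rw [pow_succ, ih, PnPic.cl_twistProjSpace_add]; congr 2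
  have hdesc : ∀ M : X'.Modules, PicF.IsInvertible M → PicF.pullCl j (PicF.cl M) = 1 →
      ∃ N : X.Modules, PicF.IsInvertible N ∧ PicF.pullCl π (PicF.cl N) = PicF.cl M := by
    intro M hM h
    have h' : PicF.pullCl (exc π x hx).subschemeι (PicF.cl M) = 1 := by
      rw [show (exc π x hx).subschemeι = e.inv ≫ j from (e.inv_hom_id_assoc _).symm, ← PicClLib.pullCl_comp, h,
        H23.PicMul.pullCl_one]
    obtain ⟨N, hN, hi⟩ := exists_descend_of_exc π x hx hdimx hπ hM (H23.PicMul.cl_eq_iff.1 h')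
    exact ⟨N, hN, (PicGrp.cl_eq_cl_iff _ _).2 hi⟩
  obtain ⟨a⟩ := P1Split.nonempty_iso_T κ (PicClLib.isInvertible_pullback j hL)
  have hd : PicF.pullCl j (PicF.cl L) = PicF.cl (Twist.twistProjSpace 1 κ
      (Curv2.deg κ (CohB1.ProjSpace 1 κ) ((Scheme.Modules.pullback j).obj L) 1)) :=
    (PicGrp.cl_eq_cl_iff _ _).2 ⟨a⟩
  generalize Curv2.deg κ (CohB1.ProjSpace 1 κ) ((Scheme.Modules.pullback j).obj L) 1 = d at hd
  obtain ⟨n, rfl | rfl⟩ := Int.eq_nat_or_neg d
  · have hJp : PicF.pullCl j (PicF.cl J ^ n) * PicF.cl (Twist.twistProjSpace 1 κ (n : ℤ)) = 1 := by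
      rw [← hpowI, ← H23.PicMul.pullCl_mul, ← mul_pow, mul_comm, hIJ, one_pow, H23.PicMul.pullCl_one]
    obtain ⟨N, hN, hNe⟩ := hdesc _ (InvX.isInvertible_tensorMod hL (InvX.isInvertible_tensorPow hJ n)) (by
      rw [H23.PicMul.cl_tensor, H23.PicMul.pullCl_mul, hd, H23.PicMul.cl_tensorPow, mul_comm, hJp])
    refine ⟨N, hN, n, Or.inl ?_⟩
    rw [hNe, H23.PicMul.cl_tensor, H23.PicMul.cl_tensorPow, mul_assoc, ← mul_pow,
      mul_comm (PicF.cl J), hIJ, one_pow, mul_one]
  · obtain ⟨N, hN, hNe⟩ := hdesc _ (InvX.isInvertible_tensorMod hL (InvX.isInvertible_tensorPow hIi n)) (by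
      rw [H23.PicMul.cl_tensor, H23.PicMul.pullCl_mul, hd, H23.PicMul.cl_tensorPow, hpowI,
        PnPic.cl_twistProjSpace_add, neg_add_cancel, PnPic.cl_twistProjSpace_zero])
    refine ⟨N, hN, n, Or.inr ?_⟩
    rw [hNe, H23.PicMul.cl_tensor, H23.PicMul.cl_tensorPow]

variable [IsIntegral X] [Smooth (X ↘ Spec (CommRingCat.of k))] [PicGrp.Law X] [PicGrp.Law X']

include hπk hdimx hπ in
/-- The numerical classes of the blown-up surface. -/
theorem nonempty_n1_equiv (hdim : topologicalKrullDim X = ((2 : ℕ) : WithBot ℕ∞)) (hπm : PicGrp.PullMul π) :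
    Nonempty (NumR.N1 k X × ℤ ≃+ NumR.N1 k X') := by
  have hd := hdim.le
  have hd' := dim_le_two k π hπk x hx hπ hd
  obtain ⟨-, hII⟩ := exc_numbers k π hπk x hx hdimx hπ
  rw [finrank_residueField_eq_one k x hx, Nat.cast_one] at hII
  have hIi : PicF.IsInvertible (ClSub.idealMod (exc π x hx)) := (S8914.result (exc π x hx)).2 hπ.1
  let p : NumR.N1 k X →+ NumR.N1 k X' := MonoidHom.toAdditive (QuotientGroup.map
      (PicGrp.subCl (Y := X) (Pic13.IsNumEquivZero k X)) (PicGrp.subCl (Y := X') (Pic13.IsNumEquivZero k X'))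
      (PicGrp.pullHom π hπm) (by
    refine (Subgroup.closure_le _).2 ?_
    rintro _ ⟨L, hL, hLn, rfl⟩
    show PicGrp.pullHom π hπm (PicGrp.cls L hL) ∈ PicGrp.subCl (Y := X') (Pic13.IsNumEquivZero k X')
    rw [PicGrp.pullHom_cls]
    exact PicGrp.cls_mem_subCl _ (IntSym.nt_pullback k π hπk hL hLn).2))
  have hp : ∀ (N : X.Modules) (hN : PicF.IsInvertible N),
      p (NumR.cl k X N hN) = NumR.cl k X' ((Scheme.Modules.pullback π).obj N) (PicClLib.isInvertible_pullback π hN) :=
    fun N hN => congrArg (fun c => NumR.toN1 k X' (Additive.ofMul c)) (PicGrp.pullHom_cls π hπm N hN)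
  let g : NumR.N1 k X × ℤ →+ NumR.N1 k X' :=
    p.coprod (zmultiplesHom _ (NumR.cl k X' (ClSub.idealMod (exc π x hx)) hIi))
  have hg : ∀ (y : NumR.N1 k X) (n : ℤ),
      g (y, n) = p y + n • NumR.cl k X' (ClSub.idealMod (exc π x hx)) hIi := fun y n => rfl
  refine ⟨AddEquiv.ofBijective g ⟨(injective_iff_map_eq_zero g).2 ?_, fun z => ?_⟩⟩
  · rintro ⟨y, n⟩ h
    obtain ⟨N, hN, rfl⟩ := NumR.exists_eq_cl y
    rw [hg, hp] at h
    have hNi := PicClLib.isInvertible_pullback π hN
    have h1 := congrArg (pairN1 k hd' _ hIi) h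
    rw [map_add, map_zsmul, pairN1_cl, pairN1_cl, map_zero, pair_pullback_exc k π hπk x hx hπ hd hN, hII,
      zero_add, smul_eq_mul] at h1
    have hn : n = 0 := by omega
    subst hn
    rw [zero_smul, add_zero] at h
    have h2 : ∀ M : X.Modules, PicF.IsInvertible M → SurfRR.pair k N M = 0 := fun M hM => by
      have h3 := congrArg (pairN1 k hd' _ (PicClLib.isInvertible_pullback π hM)) h
      rwa [pairN1_cl, map_zero, pair_pullback k π hπk x hx hdimx hπ hd hN hM] at h3
    rw [NumR.cl_eq_zero hN (SurfCone.isNumEquivZero_of_pair hdim hN h2)]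
    rfl
  · obtain ⟨L, hL, rfl⟩ := NumR.exists_eq_cl z
    obtain ⟨N, hN, n, h | h⟩ := exists_decomp k π x hx hdimx hπ hL
    · refine ⟨(NumR.cl k X N hN, n), ?_⟩
      rw [hg, hp, natCast_zsmul, ← cl_pow' k hIi n,
        ← cl_tensor' k _ _ (InvX.isInvertible_tensorMod (PicClLib.isInvertible_pullback π hN)
          (InvX.isInvertible_tensorPow hIi n))]
      refine cl_eq_of_cl k _ _ ?_
      rw [h, H23.PicMul.cl_tensor, H23.PicMul.cl_tensorPow]
      rfl
    · refine ⟨(NumR.cl k X N hN, -(n : ℤ)), ?_⟩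
      rw [hg, hp, neg_smul, natCast_zsmul, ← cl_pow' k hIi n, ← sub_eq_add_neg, sub_eq_iff_eq_add,
        ← cl_tensor' k _ _ (InvX.isInvertible_tensorMod hL (InvX.isInvertible_tensorPow hIi n))]
      refine cl_eq_of_cl k _ _ ?_
      rw [H23.PicMul.cl_tensor, H23.PicMul.cl_tensorPow]
      exact h.symm

include hπk hdimx hπ in
/-- The Picard number goes up by one. -/
theorem finrank_n1R (hdim : topologicalKrullDim X = ((2 : ℕ) : WithBot ℕ∞)) (hπm : PicGrp.PullMul π)
    [Module.Finite ℝ (NumR.N1R k X)] :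
    Module.Finite ℝ (NumR.N1R k X') ∧
      Module.finrank ℝ (NumR.N1R k X') = Module.finrank ℝ (NumR.N1R k X) + 1 := by
  obtain ⟨e⟩ := nonempty_n1_equiv k π hπk x hx hdimx hπ hdim hπm
  haveI : Module.Finite ℝ (ℝ ⊗[ℤ] NumR.N1 k X) := ‹Module.Finite ℝ (NumR.N1R k X)›
  let eR : ((ℝ ⊗[ℤ] NumR.N1 k X) × ℝ) ≃ₗ[ℝ] ℝ ⊗[ℤ] NumR.N1 k X' :=
    ((LinearEquiv.refl ℝ _).prodCongr (TensorProduct.AlgebraTensorModule.rid ℤ ℝ ℝ).symm) ≪≫ₗ
      (TensorProduct.prodRight ℤ ℝ ℝ (NumR.N1 k X) ℤ).symm ≪≫ₗ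
      LinearEquiv.baseChange ℤ ℝ _ _ e.toIntLinearEquiv
  refine ⟨Module.Finite.equiv (M := (ℝ ⊗[ℤ] NumR.N1 k X) × ℝ) eR, ?_⟩
  show Module.finrank ℝ (ℝ ⊗[ℤ] NumR.N1 k X') = Module.finrank ℝ (ℝ ⊗[ℤ] NumR.N1 k X) + 1
  rw [← eR.finrank_eq, Module.finrank_prod, Module.finrank_self]

end Groth.Agent.PointBlowUp
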